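import Mathlib
import Cfsg.Agent.Characters.ClassMul

/-!
# The Sylow `13`-subgroup of the Monster: counting (helper266, piece of [S13] of (M,23), S4929)
-/

set_option autoImplicit false
set_option linter.unusedSectionVars false

namespace Cfsg.Agent.H266.M13

open Subgroup

/-! ### nonabelian groups of order `p ^ 3` -/

section p3

variable {p : ℕ} [hp : Fact p.Prime] {P : Type*} [Group P] [Finite P]

theorem center_eq (hc : Nat.card P = p ^ 3) {x : P} (hx : orderOf x = p) (hxc : x ∈ center P)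
    (hna : ¬ ∀ r s : P, r * s = s * r) : center P = zpowers x := by
  have hle : zpowers x ≤ center P := by rwa [zpowers_le]
  have h1 : IsPGroup p P := IsPGroup.of_card hc
  obtain ⟨k, hk⟩ := (IsPGroup.iff_card).1 (h1.to_subgroup (center P))
  have h2 := card_eq_card_quotient_mul_card_subgroup (center P)
  rw [hc, hk] at h2
  have hk1 : 1 ≤ k := by
    rcases Nat.eq_zero_or_pos k with h | h
    · have h3 := card_le_of_le hle
      rw [Nat.card_zpowers, hx, hk, h, pow_zero] at h3
      have := hp.out.two_le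
      omega
    · exact h
  have hk2 : k < 2 := by
    by_contra h3
    push Not at h3
    apply hna
    have h4 : Nat.card (P ⧸ center P) ∣ p := by
      have h5 : p ^ 2 ∣ p ^ k := pow_dvd_pow p h3
      obtain ⟨m, hm⟩ := h5
      refine ⟨m, ?_⟩
      have h6 : p ^ 2 * p = p ^ 2 * (Nat.card (P ⧸ center P) * m) := by
        rw [← pow_succ, h2, hm]
        ring
      exact Nat.eq_of_mul_eq_mul_left (pow_pos hp.out.pos 2) h6
    have h7 : IsCyclic (P ⧸ center P) := by
      rcases (Nat.dvd_prime hp.out).1 h4 with h8 | h8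
      · have : Subsingleton (P ⧸ center P) := (Nat.card_eq_one_iff_unique.1 h8).1
        exact isCyclic_of_subsingleton
      · exact isCyclic_of_prime_card h8
    have h8 := MonoidHom.isMulCommutative_of_isCyclic_of_ker_le_center (QuotientGroup.mk' (center P))
      (by rw [QuotientGroup.ker_mk'])
    exact fun r s => h8.is_comm.comm r s
  symm
  refine eq_of_le_of_card_ge hle ?_
  rw [hk, Nat.card_zpowers, hx, show k = 1 by omega, pow_one]

theorem comm_mem (hc : Nat.card P = p ^ 3) {x : P} (hx : orderOf x = p) (hxc : x ∈ center P)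
    (r s : P) : r * s * r⁻¹ * s⁻¹ ∈ zpowers x := by
  have hn : (zpowers x).Normal := by
    refine ⟨fun n hn g => ?_⟩
    have h1 : n ∈ center P := (zpowers_le.2 hxc) hn
    rw [mem_center_iff.1 h1 g, mul_inv_cancel_right]
    exact hn
  have h2 := card_eq_card_quotient_mul_card_subgroup (zpowers x)
  rw [hc, Nat.card_zpowers, hx] at h2
  have h3 : Nat.card (P ⧸ zpowers x) = p ^ 2 := by
    have h4 : p ^ 2 * p = Nat.card (P ⧸ zpowers x) * p := by rw [← pow_succ, h2]
    exact (Nat.eq_of_mul_eq_mul_right hp.out.pos h4).symm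
  have h5 := IsPGroup.isMulCommutative_of_card_eq_prime_sq h3
  rw [← QuotientGroup.eq_one_iff]
  have h6 := h5.is_comm.comm (r : P ⧸ zpowers x) (s : P ⧸ zpowers x)
  simp only [QuotientGroup.mk_mul, QuotientGroup.mk_inv]
  change (r : P ⧸ zpowers x) * s = s * r at h6
  rw [h6]
  group

theorem exists_conj_mul (hc : Nat.card P = p ^ 3) {x : P} (hx : orderOf x = p) (hxc : x ∈ center P)
    (hna : ¬ ∀ r s : P, r * s = s * r) {v : P} (hv : v ∉ zpowers x) {z : P} (hz : z ∈ zpowers x) :
    ∃ s : P, s * v * s⁻¹ = v * z := by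
  rw [← center_eq hc hx hxc hna, mem_center_iff] at hv
  push Not at hv
  obtain ⟨t, ht⟩ := hv
  set c := t * v * t⁻¹ * v⁻¹ with hcdef
  have hcz : c ∈ zpowers x := comm_mem hc hx hxc t v
  have hcc : c ∈ center P := (zpowers_le.2 hxc) hcz
  have hc1 : c ≠ 1 := by
    intro h
    apply ht
    rw [hcdef] at h
    have h1 : t * v * t⁻¹ = v := by
      have := mul_inv_eq_one.1 h
      exact this
    exact mul_inv_eq_iff_eq_mul.1 h1
  have hgen : zpowers c = zpowers x := by
    refine eq_of_le_of_card_ge (zpowers_le.2 hcz) ?_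
    rw [Nat.card_zpowers, Nat.card_zpowers, hx]
    have h1 : orderOf c ∣ p := by
      rw [← hx]
      exact orderOf_dvd_of_mem_zpowers hcz
    rcases (Nat.dvd_prime hp.out).1 h1 with h2 | h2
    · exact absurd (orderOf_eq_one_iff.1 h2) hc1
    · exact h2.ge
  rw [← hgen] at hz
  obtain ⟨m, rfl⟩ := mem_powers_iff_mem_zpowers.2 hz
  refine ⟨t ^ m, ?_⟩
  have h1 : t * v * t⁻¹ = v * c := by
    rw [mem_center_iff.1 hcc v, hcdef, inv_mul_cancel_right]
  have hct : t * c * t⁻¹ = c := by rw [mem_center_iff.1 hcc t, mul_inv_cancel_right]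
  show t ^ m * v * (t ^ m)⁻¹ = v * c ^ m
  induction m with
  | zero => simp
  | succ m ih =>
    have ih' := ih (by exact pow_mem (mem_zpowers c) m)
    calc t ^ (m + 1) * v * (t ^ (m + 1))⁻¹ = t * (t ^ m * v * (t ^ m)⁻¹) * t⁻¹ := by
          rw [pow_succ']; group
      _ = t * (v * c ^ m) * t⁻¹ := by rw [ih']
      _ = (t * v * t⁻¹) * (t * c * t⁻¹) ^ m := by rw [conj_pow]; group
      _ = v * c ^ (m + 1) := by rw [h1, hct, pow_succ']; group

/-- the elements of `V` outside of the centre are conjugate to powers of each other -/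
theorem exists_conj_pow (hc : Nat.card P = p ^ 3) {x : P} (hx : orderOf x = p) (hxc : x ∈ center P)
    (hna : ¬ ∀ r s : P, r * s = s * r) {V : Subgroup P} (hV : Nat.card V = p ^ 2) (hxV : x ∈ V) {v w : P}
    (hvV : v ∈ V) (hwV : w ∈ V) (hv : v ∉ zpowers x) (hw : w ∉ zpowers x) :
    ∃ (i : ℕ) (s : P), ¬ p ∣ i ∧ s * v ^ i * s⁻¹ = w := by
  -- the quotient of `V` by `⟨x⟩`
  set x' : V := ⟨x, hxV⟩ with hx'
  have hxc' : x' ∈ center V := mem_center_iff.2 fun g => Subtype.ext (mem_center_iff.1 hxc g.1)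
  have hn : (zpowers x').Normal := by
    refine ⟨fun n hn g => ?_⟩
    have h1 : n ∈ center V := (zpowers_le.2 hxc') hn
    rw [mem_center_iff.1 h1 g, mul_inv_cancel_right]
    exact hn
  have hmem : ∀ u : V, u ∈ zpowers x' ↔ (u : P) ∈ zpowers x := by
    intro u
    constructor
    · rintro ⟨k, rfl⟩
      exact ⟨k, by simp [hx']⟩
    · rintro ⟨k, hk⟩
      exact ⟨k, Subtype.ext (by simpa [hx'] using hk)⟩
  have h2 := card_eq_card_quotient_mul_card_subgroup (zpowers x')
  have hox : orderOf x' = p := by rw [← hx, hx', Subgroup.orderOf_mk]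
  rw [hV, Nat.card_zpowers, hox] at h2
  have h3 : Nat.card (V ⧸ zpowers x') = p := by
    have h4 : p * p = Nat.card (V ⧸ zpowers x') * p := by rw [← pow_two, h2]
    exact (Nat.eq_of_mul_eq_mul_right hp.out.pos h4).symm
  have hv1 : ((⟨v, hvV⟩ : V) : V ⧸ zpowers x') ≠ 1 := by
    rw [Ne, QuotientGroup.eq_one_iff, hmem]
    exact hv
  have h5 : zpowers ((⟨v, hvV⟩ : V) : V ⧸ zpowers x') = ⊤ := by
    apply eq_top_of_card_eq
    rw [Nat.card_zpowers, h3]
    have h6 : orderOf ((⟨v, hvV⟩ : V) : V ⧸ zpowers x') ∣ p := by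
      rw [← h3]
      exact orderOf_dvd_natCard _
    rcases (Nat.dvd_prime hp.out).1 h6 with h7 | h7
    · exact absurd (orderOf_eq_one_iff.1 h7) hv1
    · exact h7
  have h6 : ((⟨w, hwV⟩ : V) : V ⧸ zpowers x') ∈ zpowers ((⟨v, hvV⟩ : V) : V ⧸ zpowers x') := by
    rw [h5]
    exact mem_top _
  obtain ⟨i, hi⟩ := mem_powers_iff_mem_zpowers.2 h6
  have h7 : (v ^ i)⁻¹ * w ∈ zpowers x := by
    have h8 : (((⟨v, hvV⟩ : V) ^ i)⁻¹ * ⟨w, hwV⟩ : V) ∈ zpowers x' := by
      rw [← QuotientGroup.eq_one_iff]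
      simp only [QuotientGroup.mk_mul, QuotientGroup.mk_inv, QuotientGroup.mk_pow]
      rw [← hi]
      exact inv_mul_cancel _
    exact (hmem _).1 h8
  have hpi : ¬ p ∣ i := by
    intro hd
    apply hw
    have h8 : ((⟨v, hvV⟩ : V) : V ⧸ zpowers x') ^ i = 1 := by
      rw [← orderOf_dvd_iff_pow_eq_one]
      have : orderOf ((⟨v, hvV⟩ : V) : V ⧸ zpowers x') ∣ p := by
        rw [← h3]
        exact orderOf_dvd_natCard _
      exact this.trans hd
    have h9 : ((⟨w, hwV⟩ : V) : V ⧸ zpowers x') = 1 := by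
      rw [← hi]
      exact h8
    rw [QuotientGroup.eq_one_iff, hmem] at h9
    exact h9
  have hvi : v ^ i ∉ zpowers x := by
    intro h
    apply hw
    have := mul_mem h h7
    rwa [mul_inv_cancel_left] at this
  obtain ⟨s, hs⟩ := exists_conj_mul hc hx hxc hna hvi h7
  exact ⟨i, s, hpi, by rw [hs, mul_inv_cancel_left]⟩

end p3

/-! ### the setting -/

section main

variable {p : ℕ} [hp : Fact p.Prime] {G : Type*} [Group G] [Finite G]

/-- the hypotheses -/
structure Hyp (p : ℕ) (a x : G) (R : Subgroup G) : Prop where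
  ha : orderOf a = p
  hx : orderOf x = p
  hca : ∃ m, ¬ p ∣ m ∧ Nat.card (centralizer ({a} : Set G)) = p ^ 2 * m
  hR : Nat.card R = p ^ 3
  hRC : R ≤ centralizer {x}
  hRx : ∀ c ∈ centralizer ({x} : Set G), ∀ r ∈ R, c * r * c⁻¹ ∈ R
  hna : ∃ r ∈ R, ∃ s ∈ R, r * s ≠ s * r
  h4 : ¬ p ^ 4 ∣ Nat.card G
  hra : ∀ k : ℕ, ¬ p ∣ k → IsConj a (a ^ k)
  hrx : ∀ k : ℕ, ¬ p ∣ k → IsConj x (x ^ k)
  hax : ¬ IsConj a x

/-- `S` is the Sylow subgroup of `C(y)` -/
structure Cen (p : ℕ) (x : G) (S : Subgroup G) (y : G) : Prop where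
  cj : IsConj x y
  cd : Nat.card S = p ^ 3
  le : S ≤ centralizer {y}
  nm : ∀ c ∈ centralizer ({y} : Set G), ∀ r ∈ S, c * r * c⁻¹ ∈ S
  na : ∃ r ∈ S, ∃ s ∈ S, r * s ≠ s * r

/-- a normal subgroup of order `p ^ 3` contains the `p`-elements -/
theorem mem_of_cent (h4 : ¬ p ^ 4 ∣ Nat.card G) {S N : Subgroup G} (hS : Nat.card S = p ^ 3) (hle : S ≤ N)
    (hn : ∀ c ∈ N, ∀ r ∈ S, c * r * c⁻¹ ∈ S) {Q : Subgroup G} (hQ : IsPGroup p Q) (hQN : Q ≤ N) : Q ≤ S := by
  have hcard : Nat.card (S.subgroupOf N) = p ^ 3 := by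
    rw [Nat.card_congr (subgroupOfEquivOfLe hle).toEquiv, hS]
  have hf : (Nat.card N).factorization p = 3 := by
    have h1 : p ^ 3 ∣ Nat.card N := by rw [← hS]; exact card_dvd_of_le hle
    have h2 : ¬ p ^ 4 ∣ Nat.card N := fun h => h4 (h.trans (card_subgroup_dvd_card N))
    have h3 := (hp.out.pow_dvd_iff_le_factorization (Nat.card_pos (α := N)).ne').1 h1
    have h5 : ¬ 4 ≤ (Nat.card N).factorization p := fun h =>
      h2 ((hp.out.pow_dvd_iff_le_factorization (Nat.card_pos (α := N)).ne').2 h)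
    omega
  let P : Sylow p N := Sylow.ofCard (S.subgroupOf N) (by rw [hcard, hf])
  have hPn : (P : Subgroup N).Normal := by
    refine ⟨fun n hn' g => ?_⟩
    exact hn g.1 g.2 n.1 hn'
  have hQ' : IsPGroup p (Q.subgroupOf N) := hQ.comap_subtype
  obtain ⟨P', hP'⟩ := hQ'.exists_le_sylow
  have hu := Sylow.unique_of_normal P hPn
  have h1 : P' = P := Subsingleton.elim _ _
  intro q hq
  have h2 : (⟨q, hQN hq⟩ : N) ∈ P' := hP' hq
  rw [h1] at h2
  exact h2

theorem conj_conj {S : Subgroup G} {x y : G} (g : G) (h : Cen p x S y) : Cen p x (S.map (MulAut.conj g).toMonoidHom) (g * y * g⁻¹) where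
  cj := h.cj.trans (isConj_iff.2 ⟨g, rfl⟩)
  cd := by rw [← h.cd]; exact Nat.card_congr (S.equivMapOfInjective _ (MulAut.conj g).injective).toEquiv.symm
  le := by
    rintro _ ⟨r, hr, rfl⟩
    rw [mem_centralizer_singleton_iff]
    have h1 := mem_centralizer_singleton_iff.1 (h.le hr)
    show g * r * g⁻¹ * (g * y * g⁻¹) = g * y * g⁻¹ * (g * r * g⁻¹)
    calc g * r * g⁻¹ * (g * y * g⁻¹) = g * (r * y) * g⁻¹ := by group
      _ = g * (y * r) * g⁻¹ := by rw [h1]
      _ = _ := by group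
  nm := by
    rintro c hc _ ⟨r, hr, rfl⟩
    have h1 : g⁻¹ * c * g ∈ centralizer ({y} : Set G) := by
      rw [mem_centralizer_singleton_iff] at hc ⊢
      calc g⁻¹ * c * g * y = g⁻¹ * (c * (g * y * g⁻¹)) * g := by group
        _ = g⁻¹ * (g * y * g⁻¹ * c) * g := by rw [hc]
        _ = y * (g⁻¹ * c * g) := by group
    refine ⟨_, h.nm _ h1 r hr, ?_⟩
    show g * (g⁻¹ * c * g * r * (g⁻¹ * c * g)⁻¹) * g⁻¹ = c * (g * r * g⁻¹) * c⁻¹
    group
  na := by
    obtain ⟨r, hr, s, hs, hne⟩ := h.na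
    refine ⟨g * r * g⁻¹, ⟨r, hr, rfl⟩, g * s * g⁻¹, ⟨s, hs, rfl⟩, fun h => hne ?_⟩
    have h1 : g * (r * s) * g⁻¹ = g * (s * r) * g⁻¹ := by
      calc g * (r * s) * g⁻¹ = g * r * g⁻¹ * (g * s * g⁻¹) := by group
        _ = g * s * g⁻¹ * (g * r * g⁻¹) := h
        _ = g * (s * r) * g⁻¹ := by group
    have h2 := mul_right_cancel h1
    exact mul_left_cancel h2

variable {a x : G} {R : Subgroup G} (H : Hyp p a x R)
include H

theorem Hyp.cen : Cen p x R x := ⟨IsConj.refl x, H.hR, H.hRC, H.hRx, H.hna⟩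

theorem Hyp.fact : (Nat.card G).factorization p = 3 := by
  have h1 : p ^ 3 ∣ Nat.card G := by rw [← H.hR]; exact card_subgroup_dvd_card R
  have h3 := (hp.out.pow_dvd_iff_le_factorization (Nat.card_pos (α := G)).ne').1 h1
  have h5 : ¬ 4 ≤ (Nat.card G).factorization p := fun h =>
    H.h4 ((hp.out.pow_dvd_iff_le_factorization (Nat.card_pos (α := G)).ne').2 h)
  omega

/-- `R` as a Sylow subgroup -/
theorem Hyp.exists_syl : ∃ P : Sylow p G, (P : Subgroup G) = R :=
  ⟨Sylow.ofCard R (by rw [H.hR, H.fact]), rfl⟩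

theorem Hyp.exists_conj (S : Sylow p G) : ∃ g : G, (S : Subgroup G) = R.map (MulAut.conj g).toMonoidHom := by
  obtain ⟨P, hP⟩ := H.exists_syl
  obtain ⟨g, hg⟩ := MulAction.exists_smul_eq G P S
  refine ⟨g, ?_⟩
  rw [← hg, Sylow.coe_subgroup_smul, hP]
  rfl

theorem Hyp.exists_cen (S : Sylow p G) : ∃ y, Cen p x (S : Subgroup G) y := by
  obtain ⟨g, hg⟩ := H.exists_conj S
  rw [hg]
  exact ⟨_, conj_conj g H.cen⟩

omit H in
theorem Cen.order {S : Subgroup G} {y : G} (h : Cen p x S y) (hx : orderOf x = p) : orderOf y = p := by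
  obtain ⟨c, rfl⟩ := isConj_iff.1 h.cj
  rw [← hx]
  exact (MulAut.conj c).orderOf_eq x

theorem Hyp.mem {S : Subgroup G} {y : G} (h : Cen p x S y) : y ∈ S := by
  refine mem_of_cent H.h4 h.cd h.le h.nm (Q := zpowers y) ?_ ?_ (mem_zpowers y)
  · exact IsPGroup.of_card (n := 1) (by rw [Nat.card_zpowers, h.order H.hx, pow_one])
  · rw [zpowers_le, mem_centralizer_singleton_iff]

theorem Hyp.eq_of {S S' : Subgroup G} {y y' : G} (h : Cen p x S y) (h' : Cen p x S' y')
    (hz : zpowers y = zpowers y') : S = S' := by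
  have hc : centralizer ({y} : Set G) = centralizer ({y'} : Set G) := by
    rw [← centralizer_closure, ← zpowers_eq_closure, hz, zpowers_eq_closure, centralizer_closure]
  have h1 : S' ≤ S := mem_of_cent H.h4 h.cd h.le h.nm (IsPGroup.of_card h'.cd) (hc ▸ h'.le)
  symm
  exact eq_of_le_of_card_ge h1 (by rw [h.cd, h'.cd])

/-- the centre -/
theorem Hyp.zp_iff {S : Subgroup G} {y : G} (h : Cen p x S y) {u : G} (hu : u ∈ S) :
    u ∈ zpowers y ↔ ∀ s ∈ S, s * u = u * s := by
  have hyS := H.mem h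
  have hyc : (⟨y, hyS⟩ : S) ∈ center S := mem_center_iff.2 fun g =>
    Subtype.ext (mem_centralizer_singleton_iff.1 (h.le g.2))
  have hna : ¬ ∀ r s : S, r * s = s * r := by
    intro hc
    obtain ⟨r, hr, s, hs, hne⟩ := h.na
    exact hne (congrArg Subtype.val (hc ⟨r, hr⟩ ⟨s, hs⟩))
  have hce := center_eq h.cd (x := (⟨y, hyS⟩ : S)) (by rw [Subgroup.orderOf_mk, h.order H.hx]) hyc hna
  have h1 : u ∈ zpowers y ↔ (⟨u, hu⟩ : S) ∈ zpowers (⟨y, hyS⟩ : S) := by
    constructor
    · rintro ⟨k, hk⟩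
      exact ⟨k, Subtype.ext (by simpa using hk)⟩
    · rintro ⟨k, hk⟩
      exact ⟨k, by simpa using congrArg Subtype.val hk⟩
  rw [h1, ← hce, mem_center_iff]
  constructor
  · intro h2 s hs
    exact congrArg Subtype.val (h2 ⟨s, hs⟩)
  · intro h2 g
    exact Subtype.ext (h2 g.1 g.2)

theorem Hyp.zp_eq {S : Subgroup G} {y y' : G} (h : Cen p x S y) (h' : Cen p x S y') : zpowers y = zpowers y' := by
  ext u
  constructor
  · intro hu
    have huS : u ∈ S := (zpowers_le.2 (H.mem h)) hu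
    rw [H.zp_iff h' huS]
    exact (H.zp_iff h huS).1 hu
  · intro hu
    have huS : u ∈ S := (zpowers_le.2 (H.mem h')) hu
    rw [H.zp_iff h huS]
    exact (H.zp_iff h' huS).1 hu

/-- the elements of `S` conjugate to `a` commute with a subgroup of order `p ^ 2` of `S` -/
theorem Hyp.card_inf {S : Sylow p G} {g : G} (hg : IsConj a g) (hgS : g ∈ (S : Subgroup G)) :
    Nat.card ((S : Subgroup G) ⊓ centralizer {g} : Subgroup G) = p ^ 2 := by
  obtain ⟨y, h⟩ := H.exists_cen S
  have hyS := H.mem h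
  have hgo : orderOf g = p := by
    obtain ⟨c, rfl⟩ := isConj_iff.1 hg
    rw [← H.ha]
    exact (MulAut.conj c).orderOf_eq a
  have hgy : g ∉ zpowers y := by
    intro hm
    apply H.hax
    obtain ⟨k, rfl⟩ := mem_powers_iff_mem_zpowers.2 hm
    have hk : ¬ p ∣ k := by
      intro hd
      have h1 : y ^ k = 1 := by
        rw [← orderOf_dvd_iff_pow_eq_one, h.order H.hx]
        exact hd
      change orderOf (y ^ k) = p at hgo
      rw [h1, orderOf_one] at hgo
      exact hp.out.one_lt.ne hgo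
    have h2 : IsConj (x ^ k) (y ^ k) := by
      obtain ⟨c, rfl⟩ := isConj_iff.1 h.cj
      exact isConj_iff.2 ⟨c, by rw [conj_pow]⟩
    exact hg.trans (h2.symm.trans (H.hrx k hk).symm)
  set W : Subgroup G := (S : Subgroup G) ⊓ centralizer {g} with hW
  have hWp : IsPGroup p W := S.2.to_le inf_le_left
  obtain ⟨k, hk⟩ := (IsPGroup.iff_card).1 hWp
  have hyW : y ∈ W := ⟨hyS, mem_centralizer_singleton_iff.2 ((mem_centralizer_singleton_iff.1 (h.le hgS)).symm)⟩
  have hgW : g ∈ W := ⟨hgS, mem_centralizer_singleton_iff.2 rfl⟩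
  have hle : zpowers y ≤ W := zpowers_le.2 hyW
  have hk1 : 2 ≤ k := by
    by_contra hlt
    push Not at hlt
    have h1 : Nat.card W ≤ Nat.card (zpowers y) := by
      rw [hk, Nat.card_zpowers, h.order H.hx]
      calc p ^ k ≤ p ^ 1 := Nat.pow_le_pow_right hp.out.pos (by omega)
        _ = p := pow_one p
    have h2 := eq_of_le_of_card_ge hle h1
    rw [h2] at hgy
    exact hgy hgW
  have hk2 : k ≤ 2 := by
    obtain ⟨m, hm, hc⟩ := H.hca
    have h1 : Nat.card (centralizer ({g} : Set G)) = Nat.card (centralizer ({a} : Set G)) := by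
      obtain ⟨c, rfl⟩ := isConj_iff.1 hg
      refine Nat.card_congr ((MulAut.conj c).toEquiv.symm.subtypeEquiv fun u => ?_)
      rw [mem_centralizer_singleton_iff, mem_centralizer_singleton_iff]
      show u * (c * a * c⁻¹) = c * a * c⁻¹ * u ↔ c⁻¹ * u * c * a = a * (c⁻¹ * u * c)
      constructor
      · intro h
        calc c⁻¹ * u * c * a = c⁻¹ * (u * (c * a * c⁻¹)) * c := by group
          _ = c⁻¹ * (c * a * c⁻¹ * u) * c := by rw [h]
          _ = a * (c⁻¹ * u * c) := by group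
      · intro h
        calc u * (c * a * c⁻¹) = c * (c⁻¹ * u * c * a) * c⁻¹ := by group
          _ = c * (a * (c⁻¹ * u * c)) * c⁻¹ := by rw [h]
          _ = c * a * c⁻¹ * u := by group
    have h2 : p ^ k ∣ p ^ 2 * m := by
      rw [← hc, ← h1, ← hk]
      exact card_dvd_of_le inf_le_right
    by_contra hlt
    push Not at hlt
    have h3 : p ^ 3 ∣ p ^ 2 * m := (pow_dvd_pow p hlt).trans h2
    rw [pow_succ] at h3
    exact hm (Nat.dvd_of_mul_dvd_mul_left (pow_pos hp.out.pos 2) h3)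
  rw [hk, show k = 2 by omega]

/-- an element of the intersection outside of the centre is conjugate to `a` -/
theorem Hyp.conj_a {S : Sylow p G} {g y w : G} (hg : IsConj a g) (hgS : g ∈ (S : Subgroup G)) (h : Cen p x (S : Subgroup G) y)
    (hw : w ∈ (S : Subgroup G)) (hwg : w * g = g * w) (hwy : w ∉ zpowers y) : IsConj a w := by
  have hyS := H.mem h
  have hgo : orderOf g = p := by
    obtain ⟨c, rfl⟩ := isConj_iff.1 hg
    rw [← H.ha]
    exact (MulAut.conj c).orderOf_eq a
  have hgy : g ∉ zpowers y := by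
    intro hm
    apply H.hax
    obtain ⟨k, rfl⟩ := mem_powers_iff_mem_zpowers.2 hm
    have hk : ¬ p ∣ k := by
      intro hd
      have h1 : y ^ k = 1 := by
        rw [← orderOf_dvd_iff_pow_eq_one, h.order H.hx]
        exact hd
      change orderOf (y ^ k) = p at hgo
      rw [h1, orderOf_one] at hgo
      exact hp.out.one_lt.ne hgo
    have h2 : IsConj (x ^ k) (y ^ k) := by
      obtain ⟨c, rfl⟩ := isConj_iff.1 h.cj
      exact isConj_iff.2 ⟨c, by rw [conj_pow]⟩
    exact hg.trans (h2.symm.trans (H.hrx k hk).symm)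
  set W : Subgroup G := (S : Subgroup G) ⊓ centralizer {g} with hW
  have hyc : (⟨y, hyS⟩ : (S : Subgroup G)) ∈ center (S : Subgroup G) := mem_center_iff.2 fun g =>
    Subtype.ext (mem_centralizer_singleton_iff.1 (h.le g.2))
  have hna : ¬ ∀ r s : (S : Subgroup G), r * s = s * r := by
    intro hc
    obtain ⟨r, hr, s, hs, hne⟩ := h.na
    exact hne (congrArg Subtype.val (hc ⟨r, hr⟩ ⟨s, hs⟩))
  have hzp : ∀ u : (S : Subgroup G), (u : G) ∉ zpowers y → u ∉ zpowers (⟨y, hyS⟩ : (S : Subgroup G)) := by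
    rintro u hu ⟨k, hk⟩
    exact hu ⟨k, by simpa using congrArg Subtype.val hk⟩
  obtain ⟨i, s, hi, hs⟩ := exists_conj_pow (P := (S : Subgroup G)) h.cd (x := ⟨y, hyS⟩)
    (by rw [Subgroup.orderOf_mk, h.order H.hx]) hyc hna (V := W.subgroupOf S)
    (by rw [Nat.card_congr (subgroupOfEquivOfLe inf_le_left).toEquiv, H.card_inf hg hgS])
    (by
      rw [mem_subgroupOf]
      exact ⟨hyS, mem_centralizer_singleton_iff.2 ((mem_centralizer_singleton_iff.1 (h.le hgS)).symm)⟩)
    (v := ⟨g, hgS⟩) (w := ⟨w, hw⟩)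
    (by rw [mem_subgroupOf]; exact ⟨hgS, mem_centralizer_singleton_iff.2 rfl⟩)
    (by rw [mem_subgroupOf]; exact ⟨hw, mem_centralizer_singleton_iff.2 hwg⟩) (hzp _ hgy) (hzp _ hwy)
  have h1 : (s : G) * g ^ i * (s : G)⁻¹ = w := congrArg Subtype.val hs
  have h2 : IsConj (g ^ i) w := isConj_iff.2 ⟨s, h1⟩
  have h3 : IsConj (a ^ i) (g ^ i) := by
    obtain ⟨c, rfl⟩ := isConj_iff.1 hg
    exact isConj_iff.2 ⟨c, by rw [conj_pow]⟩
  exact (H.hra i hi).trans (h3.trans h2)

/-- the Sylow subgroups containing `g ∼ a` -/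
theorem Hyp.card_syl {g : G} (hg : IsConj a g) :
    Nat.card {S : Sylow p G // g ∈ (S : Subgroup G)} = Nat.card (Sylow p (centralizer ({g} : Set G))) := by
  have hf : (Nat.card (centralizer ({g} : Set G))).factorization p = 2 := by
    obtain ⟨m, hm, hc⟩ := H.hca
    have h1 : Nat.card (centralizer ({g} : Set G)) = Nat.card (centralizer ({a} : Set G)) := by
      obtain ⟨c, rfl⟩ := isConj_iff.1 hg
      refine Nat.card_congr ((MulAut.conj c).toEquiv.symm.subtypeEquiv fun u => ?_)
      rw [mem_centralizer_singleton_iff, mem_centralizer_singleton_iff]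
      show u * (c * a * c⁻¹) = c * a * c⁻¹ * u ↔ c⁻¹ * u * c * a = a * (c⁻¹ * u * c)
      constructor
      · intro h
        calc c⁻¹ * u * c * a = c⁻¹ * (u * (c * a * c⁻¹)) * c := by group
          _ = c⁻¹ * (c * a * c⁻¹ * u) * c := by rw [h]
          _ = a * (c⁻¹ * u * c) := by group
      · intro h
        calc u * (c * a * c⁻¹) = c * (c⁻¹ * u * c * a) * c⁻¹ := by group
          _ = c * (a * (c⁻¹ * u * c)) * c⁻¹ := by rw [h]
          _ = c * a * c⁻¹ * u := by group
    have hm0 : m ≠ 0 := by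
      rintro rfl
      exact hm (dvd_zero p)
    rw [h1, hc, Nat.factorization_mul (pow_pos hp.out.pos 2).ne' hm0, Finsupp.add_apply,
      hp.out.factorization_pow, Finsupp.single_eq_same, Nat.factorization_eq_zero_of_not_dvd hm]
  let F : {S : Sylow p G // g ∈ (S : Subgroup G)} → Sylow p (centralizer ({g} : Set G)) := fun S =>
    Sylow.ofCard (((S.1 : Subgroup G) ⊓ centralizer {g} : Subgroup G).subgroupOf (centralizer {g})) (by
      rw [Nat.card_congr (subgroupOfEquivOfLe inf_le_right).toEquiv, H.card_inf hg S.2, hf])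
  have hF : ∀ (S : {S : Sylow p G // g ∈ (S : Subgroup G)}) (u : centralizer ({g} : Set G)),
      u ∈ F S ↔ (u : G) ∈ (S.1 : Subgroup G) := by
    intro S u
    constructor
    · intro hu
      exact (mem_subgroupOf.1 (show u ∈ ((S.1 : Subgroup G) ⊓ centralizer {g} : Subgroup G).subgroupOf (centralizer {g}) from hu)).1
    · intro hu
      exact (show u ∈ ((S.1 : Subgroup G) ⊓ centralizer {g} : Subgroup G).subgroupOf (centralizer {g}) from
        mem_subgroupOf.2 ⟨hu, u.2⟩)
  refine Nat.card_congr (Equiv.ofBijective F ⟨?_, ?_⟩)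
  · intro S S' hSS
    obtain ⟨y, h⟩ := H.exists_cen S.1
    obtain ⟨y', h'⟩ := H.exists_cen S'.1
    have hyS' := H.mem h'
    have hyg : y' * g = g * y' := (mem_centralizer_singleton_iff.1 (h'.le S'.2)).symm
    have hu : (⟨y', mem_centralizer_singleton_iff.2 hyg⟩ : centralizer ({g} : Set G)) ∈ F S' := (hF S' _).2 hyS'
    rw [← hSS] at hu
    have hyS : y' ∈ (S.1 : Subgroup G) := (hF S _).1 hu
    have hz : y' ∈ zpowers y := by
      by_contra hne
      have h1 := H.conj_a hg S.2 h hyS hyg hne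
      exact H.hax (h1.trans h'.cj.symm)
    have hzz : zpowers y = zpowers y' := by
      symm
      refine eq_of_le_of_card_ge (zpowers_le.2 hz) ?_
      rw [Nat.card_zpowers, Nat.card_zpowers, h.order H.hx, h'.order H.hx]
    exact Subtype.ext (Sylow.ext (H.eq_of h h' hzz))
  · intro W
    have hWp : IsPGroup p ((W : Subgroup (centralizer ({g} : Set G))).map (centralizer ({g} : Set G)).subtype) :=
      W.2.map _
    obtain ⟨S, hS⟩ := hWp.exists_le_sylow
    have hgW : (⟨g, mem_centralizer_singleton_iff.2 rfl⟩ : centralizer ({g} : Set G)) ∈ W := by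
      set g' : centralizer ({g} : Set G) := ⟨g, mem_centralizer_singleton_iff.2 rfl⟩ with hg'
      have hn : (zpowers g').Normal := by
        refine ⟨fun n hn u => ?_⟩
        obtain ⟨k, rfl⟩ := hn
        have h1 : u * g' = g' * u := Subtype.ext (mem_centralizer_singleton_iff.1 u.2)
        have h2 : u * g' ^ k = g' ^ k * u := (show Commute u g' from h1).zpow_right k
        show u * g' ^ k * u⁻¹ ∈ _
        rw [h2, mul_inv_cancel_right]
        exact zpow_mem (mem_zpowers g') k
      have hgp : IsPGroup p (zpowers g') := by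
        refine IsPGroup.of_card (n := 1) ?_
        rw [Nat.card_zpowers, pow_one, hg', Subgroup.orderOf_mk]
        obtain ⟨c, rfl⟩ := isConj_iff.1 hg
        rw [← H.ha]
        exact (MulAut.conj c).orderOf_eq a
      obtain ⟨Q, hQ⟩ := hgp.exists_le_sylow
      obtain ⟨u, hu⟩ := MulAction.exists_smul_eq (centralizer ({g} : Set G)) Q W
      have h3 : u * g' * u⁻¹ ∈ W := by
        rw [← hu]
        change u * g' * u⁻¹ ∈ ((u • Q : Sylow p _) : Subgroup _)
        rw [Sylow.coe_subgroup_smul]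
        exact Subgroup.smul_mem_pointwise_smul _ (MulAut.conj u) _ (hQ (mem_zpowers g'))
      have h4 : u * g' * u⁻¹ = g' := by
        have h1 : u * g' = g' * u := Subtype.ext (mem_centralizer_singleton_iff.1 u.2)
        rw [h1, mul_inv_cancel_right]
      rwa [h4] at h3
    have hgS : g ∈ (S : Subgroup G) := hS ⟨_, hgW, rfl⟩
    refine ⟨⟨S, hgS⟩, ?_⟩
    have hle : (W : Subgroup (centralizer ({g} : Set G))) ≤ (F ⟨S, hgS⟩ : Subgroup _) := by
      intro u hu
      exact (hF ⟨S, hgS⟩ u).2 (hS ⟨u, hu, rfl⟩)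
    exact Sylow.ext (W.is_maximal' (F ⟨S, hgS⟩).2 hle)

omit H in
open scoped Classical in
/-- double counting -/
theorem double {α β : Type*} [Fintype α] [Fintype β] (s : Finset α) (r : α → β → Prop) {m n : ℕ}
    (h1 : ∀ u ∈ s, Nat.card {v : β // r u v} = m) (h2 : ∀ v : β, Nat.card {u : α // u ∈ s ∧ r u v} = n) :
    s.card * m = Fintype.card β * n := by
  have h := Finset.sum_card_bipartiteAbove_eq_sum_card_bipartiteBelow (s := s) (t := (Finset.univ : Finset β)) r
  have e1 : ∑ u ∈ s, (Finset.univ.bipartiteAbove r u).card = ∑ u ∈ s, m := by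
    refine Finset.sum_congr rfl fun u hu => ?_
    rw [← h1 u hu, Nat.card_eq_fintype_card, Fintype.card_subtype]
    rfl
  have e2 : ∑ v : β, (s.bipartiteBelow r v).card = ∑ _v : β, n := by
    refine Finset.sum_congr rfl fun v _ => ?_
    rw [← h2 v, Nat.card_eq_fintype_card, Fintype.card_subtype]
    congr 1
    ext u
    simp [Finset.mem_bipartiteBelow]
  rw [e1, e2, Finset.sum_const, Finset.sum_const, smul_eq_mul, smul_eq_mul, Finset.card_univ] at h
  exact h

/-- the number of elements of `R` conjugate to `a` -/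
noncomputable def nA (a : G) (R : Subgroup G) : ℕ := Nat.card {u : G // IsConj a u ∧ u ∈ R}

theorem Hyp.card_nA (S : Sylow p G) : Nat.card {u : G // IsConj a u ∧ u ∈ (S : Subgroup G)} = nA a R := by
  obtain ⟨g, hg⟩ := H.exists_conj S
  rw [hg]
  refine Nat.card_congr ((MulAut.conj g).toEquiv.symm.subtypeEquiv fun u => ?_)
  have h1 : (MulAut.conj g).toEquiv.symm u = g⁻¹ * u * g := by
    show (MulAut.conj g).symm u = _
    simp
  rw [h1]
  constructor
  · rintro ⟨h2, w, hw, rfl⟩
    refine ⟨h2.trans (isConj_iff.2 ⟨g⁻¹, by group⟩), ?_⟩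
    have : g⁻¹ * (MulAut.conj g).toMonoidHom w * g = w := by
      show g⁻¹ * (g * w * g⁻¹) * g = w
      group
    rw [this]
    exact hw
  · rintro ⟨h2, hw⟩
    refine ⟨h2.trans (isConj_iff.2 ⟨g, by group⟩), ⟨_, hw, ?_⟩⟩
    show g * (g⁻¹ * u * g) * g⁻¹ = u
    group

theorem Hyp.unique_cen {y : G} (hy : IsConj x y) : Nat.card {S : Sylow p G // Cen p x (S : Subgroup G) y} = 1 := by
  rw [Nat.card_eq_one_iff_unique]
  constructor
  · refine ⟨fun S S' => ?_⟩
    exact Subtype.ext (Sylow.ext (H.eq_of S.2 S'.2 rfl))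
  · obtain ⟨c, rfl⟩ := isConj_iff.1 hy
    have h1 := conj_conj c H.cen
    have h2 : Nat.card (R.map (MulAut.conj c).toMonoidHom) = p ^ (Nat.card G).factorization p := by
      rw [h1.cd, H.fact]
    exact ⟨⟨Sylow.ofCard _ h2, h1⟩⟩

theorem Hyp.card_cen (S : Sylow p G) : Nat.card {y : G // Cen p x (S : Subgroup G) y} = p - 1 := by
  obtain ⟨y, h⟩ := H.exists_cen S
  have hyo := h.order H.hx
  have key : ∀ u : G, Cen p x (S : Subgroup G) u ↔ u ∈ zpowers y ∧ u ≠ 1 := by
    intro u
    constructor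
    · intro hu
      refine ⟨?_, ?_⟩
      · rw [H.zp_eq h hu]
        exact mem_zpowers u
      · intro h1
        have := hu.order H.hx
        rw [h1, orderOf_one] at this
        exact hp.out.one_lt.ne this
    · rintro ⟨hu, hu1⟩
      obtain ⟨k, rfl⟩ := mem_powers_iff_mem_zpowers.2 hu
      have hk : ¬ p ∣ k := by
        intro hd
        apply hu1
        show y ^ k = 1
        rw [← orderOf_dvd_iff_pow_eq_one, hyo]
        exact hd
      have h2 : IsConj (x ^ k) (y ^ k) := by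
        obtain ⟨c, rfl⟩ := isConj_iff.1 h.cj
        exact isConj_iff.2 ⟨c, by rw [conj_pow]⟩
      have hz : zpowers (y ^ k) = zpowers y := by
        refine eq_of_le_of_card_ge (zpowers_le.2 (pow_mem (mem_zpowers y) k)) ?_
        rw [Nat.card_zpowers, Nat.card_zpowers, hyo, ← H.hx, orderOf_pow' _ (by rintro rfl; exact hk (dvd_zero p)), hyo]
        have : p.gcd k = 1 := (Nat.Prime.coprime_iff_not_dvd hp.out).2 hk
        rw [this, Nat.div_one, H.hx]
      have hc : centralizer ({y ^ k} : Set G) = centralizer ({y} : Set G) := by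
        rw [← centralizer_closure, ← zpowers_eq_closure, hz, zpowers_eq_closure, centralizer_closure]
      exact ⟨(H.hrx k hk).trans h2, h.cd, by rw [show (fun x => y ^ x) k = y ^ k from rfl, hc]; exact h.le,
        by rw [show (fun x => y ^ x) k = y ^ k from rfl, hc]; exact h.nm, h.na⟩
  have h1 : Nat.card {u : G // Cen p x (S : Subgroup G) u} = Nat.card {u : zpowers y // u ≠ 1} := by
    refine Nat.card_congr ⟨fun u => ⟨⟨u.1, ((key u.1).1 u.2).1⟩, fun h => ((key u.1).1 u.2).2 (congrArg Subtype.val h)⟩,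
      fun u => ⟨u.1.1, (key u.1.1).2 ⟨u.1.2, fun h => u.2 (Subtype.ext h)⟩⟩, fun u => rfl, fun u => rfl⟩
  classical
  have := Fintype.ofFinite (zpowers y)
  rw [h1, Nat.card_eq_fintype_card, Fintype.card_subtype_compl, Fintype.card_subtype_eq, ← Nat.card_eq_fintype_card,
    Nat.card_zpowers, hyo]

theorem Hyp.card_syl' {g : G} (hg : IsConj a g) :
    Nat.card {S : Sylow p G // g ∈ (S : Subgroup G)} = Nat.card (Sylow p (centralizer ({a} : Set G))) := by
  rw [← H.card_syl (IsConj.refl a)]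
  obtain ⟨c, rfl⟩ := isConj_iff.1 hg
  refine Nat.card_congr ((MulAction.toPerm c⁻¹ : Equiv.Perm (Sylow p G)).subtypeEquiv fun S => ?_)
  have h1 : (((MulAction.toPerm c⁻¹ : Equiv.Perm (Sylow p G)) S : Sylow p G) : Subgroup G) =
      (S : Subgroup G).map (MulAut.conj c⁻¹).toMonoidHom := by
    change ((c⁻¹ • S : Sylow p G) : Subgroup G) = _
    rw [Sylow.coe_subgroup_smul]
    rfl
  rw [h1]
  constructor
  · intro h
    refine ⟨_, h, ?_⟩
    show c⁻¹ * (c * a * c⁻¹) * c⁻¹⁻¹ = a
    group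
  · rintro ⟨w, hw, hwa⟩
    have h2 : c⁻¹ * w * c⁻¹⁻¹ = a := hwa
    rw [← h2]
    have h3 : c * (c⁻¹ * w * c⁻¹⁻¹) * c⁻¹ = w := by group
    rw [h3]
    exact hw

/-- the counting -/
theorem Hyp.count {M : ℕ} (hM : Nat.card (Sylow p (centralizer ({a} : Set G))) = M) :
    nA a R * Nat.card (centralizer ({a} : Set G)) = (p - 1) * Nat.card (centralizer ({x} : Set G)) * M := by
  classical
  have := Fintype.ofFinite G
  have := Fintype.ofFinite (Sylow p G)
  have c1 := double (Finset.univ.filter (IsConj x)) (fun y (S : Sylow p G) => Cen p x (S : Subgroup G) y) (m := 1) (n := p - 1)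
    (fun y hy => H.unique_cen (Finset.mem_filter.1 hy).2) (fun S => by
      rw [← H.card_cen S]
      refine Nat.card_congr (Equiv.subtypeEquivRight fun y => ⟨fun h => h.2, fun h => ⟨?_, h⟩⟩)
      exact Finset.mem_filter.2 ⟨Finset.mem_univ _, h.cj⟩)
  have c2 := double (Finset.univ.filter (IsConj a)) (fun g (S : Sylow p G) => g ∈ (S : Subgroup G)) (m := M) (n := nA a R)
    (fun g hg => by rw [H.card_syl' (Finset.mem_filter.1 hg).2, hM]) (fun S => by
      rw [← H.card_nA S]
      refine Nat.card_congr (Equiv.subtypeEquivRight fun y => ?_)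
      simp)
  have d : ∀ u : G, (Finset.univ.filter (IsConj u)).card * Nat.card (centralizer ({u} : Set G)) = Nat.card G := by
    intro u
    have h1 : (Finset.univ.filter (IsConj u)).card = (centralizer ({u} : Set G)).index := by
      rw [← Cfsg.Agent.Characters.ClassMul.card_filter_isConj]
    rw [h1, mul_comm, card_mul_index]
  have dx := d x
  have da := d a
  have hs : 0 < Fintype.card (Sylow p G) := Fintype.card_pos
  rw [mul_one] at c1
  rw [c1] at dx
  apply Nat.eq_of_mul_eq_mul_left hs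
  calc Fintype.card (Sylow p G) * (nA a R * Nat.card (centralizer ({a} : Set G)))
      = Fintype.card (Sylow p G) * nA a R * Nat.card (centralizer ({a} : Set G)) := by ring
    _ = (Finset.univ.filter (IsConj a)).card * M * Nat.card (centralizer ({a} : Set G)) := by rw [c2]
    _ = M * ((Finset.univ.filter (IsConj a)).card * Nat.card (centralizer ({a} : Set G))) := by ring
    _ = M * (Fintype.card (Sylow p G) * (p - 1) * Nat.card (centralizer ({x} : Set G))) := by rw [da, dx]
    _ = _ := by ring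

/-- the number of elements of `V = S ∩ C(g)` -/
theorem Hyp.card_V {S : Sylow p G} {g y : G} (hg : IsConj a g) (hgS : g ∈ (S : Subgroup G)) (h : Cen p x (S : Subgroup G) y)
    {u : G} (hu : u ∈ (S : Subgroup G) ⊓ centralizer {g}) : u = 1 ∨ (u ∈ zpowers y ∧ IsConj x u) ∨
      (u ∉ zpowers y ∧ IsConj a u) := by
  by_cases h1 : u = 1
  · exact Or.inl h1
  · right
    by_cases h2 : u ∈ zpowers y
    · left
      refine ⟨h2, ?_⟩
      obtain ⟨k, rfl⟩ := mem_powers_iff_mem_zpowers.2 h2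
      have hk : ¬ p ∣ k := by
        intro hd
        apply h1
        show y ^ k = 1
        rw [← orderOf_dvd_iff_pow_eq_one, h.order H.hx]
        exact hd
      have h3 : IsConj (x ^ k) (y ^ k) := by
        obtain ⟨c, rfl⟩ := isConj_iff.1 h.cj
        exact isConj_iff.2 ⟨c, by rw [conj_pow]⟩
      exact (H.hrx k hk).trans h3
    · right
      exact ⟨h2, H.conj_a hg hgS h hu.1 (mem_centralizer_singleton_iff.1 hu.2) h2⟩

end main

/-! ### sums of characters over subgroups -/

section sums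

open Cfsg Cfsg.Agent.Characters.Core
open scoped BigOperators

variable {G : Type*} [Group G] [Fintype G]

open scoped Classical in
theorem exists_sum {X : G → ℂ} (hX : IsCharacter G X) (H : Subgroup G) :
    ∃ n : ℕ, ∑ h with h ∈ H, X h = (Nat.card H : ℂ) * n := by
  have h1 : IsCharacter H (fun h : H => X h) := isCharacter_comp H.subtype hX
  obtain ⟨n, hn⟩ := classInner_isNat h1 (isCharacter_one (G := H))
  refine ⟨n, ?_⟩
  rw [classInner_def] at hn
  have h2 : (Nat.card H : ℂ) ≠ 0 := by exact_mod_cast Nat.card_pos.ne'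
  have h3 : ∑ h with h ∈ H, X h = ∑ h : H, X h := by
    rw [← Finset.sum_subtype_eq_sum_filter (s := Finset.univ) (f := X) (p := fun h => h ∈ H)]
    refine Finset.sum_bij (fun u _ => ⟨u.1, u.2⟩) ?_ ?_ ?_ ?_
    · intro u _; exact Finset.mem_univ _
    · intro u _ v _ huv; exact Subtype.ext (congrArg Subtype.val huv)
    · intro v _; exact ⟨⟨v.1, v.2⟩, by simp, rfl⟩
    · intro u _; rfl
  rw [h3]
  have h4 : ∑ g : H, X g * (starRingEnd ℂ) ((1 : H → ℂ) g) = ∑ h : H, X h :=
    Finset.sum_congr rfl fun g _ => by simp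
  rw [h4] at hn
  rw [← hn]
  field_simp

open scoped Classical in
theorem sum_three (T : Finset G) (f : G → ℂ) (A : G → Prop) {d xa z : ℂ} (h1 : (1 : G) ∈ T) (hA1 : ¬ A 1)
    (hd : f 1 = d) (hA : ∀ u ∈ T, A u → f u = xa) (hB : ∀ u ∈ T, u ≠ 1 → ¬ A u → f u = z) :
    ∑ u ∈ T, f u = d + ((T.filter A).card : ℂ) * xa + ((T.card : ℂ) - 1 - ((T.filter A).card : ℂ)) * z := by
  rw [← Finset.sum_filter_add_sum_filter_not T A]
  have e1 : ∑ u ∈ T.filter A, f u = ((T.filter A).card : ℂ) * xa := by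
    rw [Finset.sum_congr rfl fun u hu => hA u (Finset.mem_filter.1 hu).1 (Finset.mem_filter.1 hu).2,
      Finset.sum_const, nsmul_eq_mul]
  have h2 : (1 : G) ∈ T.filter fun u => ¬ A u := Finset.mem_filter.2 ⟨h1, hA1⟩
  have e2 : ∑ u ∈ T.filter (fun u => ¬ A u), f u = d + ((T.filter fun u => ¬ A u).card - 1 : ℂ) * z := by
    rw [← Finset.add_sum_erase _ _ h2, hd]
    congr 1
    rw [Finset.sum_congr rfl fun u hu => hB u (Finset.mem_filter.1 (Finset.mem_of_mem_erase hu)).1
      (Finset.ne_of_mem_erase hu) (Finset.mem_filter.1 (Finset.mem_of_mem_erase hu)).2, Finset.sum_const,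
      nsmul_eq_mul, Finset.card_erase_of_mem h2]
    rw [Nat.cast_sub (Finset.card_pos.2 ⟨_, h2⟩)]
    simp
  have e3 : ((T.filter A).card : ℂ) + ((T.filter fun u => ¬ A u).card : ℂ) = (T.card : ℂ) := by
    exact_mod_cast Finset.card_filter_add_card_filter_not (s := T) A
  rw [e1, e2, ← e3]
  ring

open scoped Classical in
theorem sum_sub {X : G → ℂ} (hX : IsCharacter G X) (K : Subgroup G) (A : G → Prop) {d xa z : ℤ} {n N : ℕ}
    (hN : Nat.card K = N) (hn : Nat.card {u : G // u ∈ K ∧ A u} = n) (hA1 : ¬ A 1)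
    (hd : X 1 = d) (hA : ∀ u ∈ K, A u → X u = xa) (hB : ∀ u ∈ K, u ≠ 1 → ¬ A u → X u = z) :
    ∃ m : ℤ, d + n * xa + (N - 1 - n) * z = N * m := by
  obtain ⟨m, hm⟩ := exists_sum hX K
  rw [sum_three (Finset.univ.filter (· ∈ K)) X A (Finset.mem_filter.2 ⟨Finset.mem_univ _, one_mem K⟩) hA1 hd
    (fun u hu hu' => hA u (Finset.mem_filter.1 hu).2 hu')
    (fun u hu hu1 hu' => hB u (Finset.mem_filter.1 hu).2 hu1 hu')] at hm
  have c1 : (Finset.univ.filter (· ∈ K)).card = N := by
    rw [← hN, Nat.card_eq_fintype_card, Fintype.card_subtype]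
  have c2 : ((Finset.univ.filter (· ∈ K)).filter A).card = n := by
    rw [← hn, Nat.card_eq_fintype_card, Fintype.card_subtype, Finset.filter_filter]
  rw [c1, c2, hN] at hm
  refine ⟨m, ?_⟩
  have : ((d + n * xa + (N - 1 - n) * z : ℤ) : ℂ) = ((N * m : ℤ) : ℂ) := by
    push_cast
    exact hm
  exact_mod_cast this

end sums

theorem card_compl {G : Type*} [Group G] [Finite G] {K L : Subgroup G} (h : L ≤ K) :
    Nat.card {u : G // u ∈ K ∧ u ∉ L} = Nat.card K - Nat.card L := by
  classical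
  have := Fintype.ofFinite G
  have h1 : (Finset.univ.filter (· ∈ K)).card = Nat.card K := by
    rw [Nat.card_eq_fintype_card, Fintype.card_subtype]
  have h2 : (Finset.univ.filter (· ∈ L)).card = Nat.card L := by
    rw [Nat.card_eq_fintype_card, Fintype.card_subtype]
  have h3 : (Finset.univ.filter fun u => u ∈ K ∧ u ∉ L) = Finset.univ.filter (· ∈ K) \ Finset.univ.filter (· ∈ L) := by
    ext u
    simp
  rw [Nat.card_eq_fintype_card, Fintype.card_subtype, h3, Finset.card_sdiff_of_subset, h1, h2]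
  intro u hu
  simp only [Finset.mem_filter, Finset.mem_univ, true_and] at hu ⊢
  exact h hu

/-- **The congruences.** -/
theorem congr13 {G : Type*} [Group G] [Finite G] {a x : G} (ha : orderOf a = 13) (hx : orderOf x = 13)
    (hca : Nat.card (centralizer ({a} : Set G)) = 73008) (hsa : Nat.card (Sylow 13 (centralizer ({a} : Set G))) = 144)
    (hcx : Nat.card (centralizer ({x} : Set G)) = 52728) {R : Subgroup G} (hR : Nat.card R = 2197)
    (hRC : R ≤ centralizer {x}) (hRx : ∀ c ∈ centralizer ({x} : Set G), ∀ r ∈ R, c * r * c⁻¹ ∈ R)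
    (hna : ∃ r ∈ R, ∃ s ∈ R, r * s ≠ s * r) (hexp : ∀ r ∈ R, r ^ 13 = 1) (h4 : ¬ 13 ^ 4 ∣ Nat.card G)
    (hra : ∀ k : ℕ, ¬ 13 ∣ k → IsConj a (a ^ k)) (hrx : ∀ k : ℕ, ¬ 13 ∣ k → IsConj x (x ^ k)) (hax : ¬ IsConj a x)
    (hcl : ∀ y : G, orderOf y = 13 → IsConj a y ∨ IsConj x y)
    {X : G → ℂ} (hX : Cfsg.IsCharacter G X) {d z xa : ℤ} (hd : X 1 = d) (h1 : X a = xa) (h2 : X x = z) :
    (169 : ℤ) ∣ d - z ∧ (2197 : ℤ) ∣ d + 948 * z + 1248 * xa := by
  have hp : Fact (Nat.Prime 13) := ⟨by norm_num⟩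
  have := Fintype.ofFinite G
  have H : Hyp 13 a x R := ⟨ha, hx, ⟨432, by norm_num, by rw [hca]; norm_num⟩, by rw [hR]; norm_num, hRC, hRx, hna, h4,
    hra, hrx, hax⟩
  have hXa : ∀ u : G, IsConj a u → X u = xa := by
    intro u hu
    obtain ⟨c, rfl⟩ := isConj_iff.1 hu
    rw [← h1]
    exact Cfsg.Agent.Characters.Core.isCharacter_isClassFunction hX a c
  have hXx : ∀ u : G, IsConj x u → X u = z := by
    intro u hu
    obtain ⟨c, rfl⟩ := isConj_iff.1 hu
    rw [← h2]
    exact Cfsg.Agent.Characters.Core.isCharacter_isClassFunction hX x c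
  -- the number of elements of `R` conjugate to `a`
  have hnA : nA a R = 1248 := by
    have h := H.count hsa
    rw [hca, hcx] at h
    omega
  have ha1 : ¬ IsConj a 1 := by
    intro h
    rw [isConj_one_left] at h
    rw [h, orderOf_one] at ha
    omega
  -- the sum over `R`
  obtain ⟨n3, e3⟩ := sum_sub hX R (IsConj a) (d := d) (xa := xa) (z := z) (n := 1248) (N := 2197) hR
    (by
      rw [← hnA, nA]
      exact Nat.card_congr (Equiv.subtypeEquivRight fun u => and_comm)) ha1 hd (fun u _ hu => hXa u hu)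
    (fun u huR hu1 hu2 => by
      have ho : orderOf u = 13 := orderOf_eq_prime (hexp u huR) hu1
      rcases hcl u ho with h | h
      · exact absurd h hu2
      · exact hXx u h)
  -- the sum over `⟨a⟩`
  obtain ⟨n1, e1⟩ := sum_sub hX (zpowers a) (· ∉ (⊥ : Subgroup G)) (d := d) (xa := xa) (z := 0) (n := 12) (N := 13)
    (by rw [Nat.card_zpowers, ha])
    (by rw [card_compl bot_le, Nat.card_zpowers, ha, card_bot]) (by simp) hd
    (fun u hu hu1 => by
      obtain ⟨k, rfl⟩ := mem_powers_iff_mem_zpowers.2 hu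
      refine hXa _ (hra k ?_)
      intro hk
      apply hu1
      rw [mem_bot]
      show a ^ k = 1
      rw [← orderOf_dvd_iff_pow_eq_one, ha]
      exact hk) (fun u _ hu1 hu2 => absurd (by simpa using hu2) hu1)
  -- the sum over `V`
  have hex : ∃ S : Sylow 13 G, a ∈ (S : Subgroup G) := by
    have hq : IsPGroup 13 (zpowers a) := IsPGroup.of_card (n := 1) (by rw [Nat.card_zpowers, ha, pow_one])
    obtain ⟨S, hS⟩ := hq.exists_le_sylow
    exact ⟨S, hS (mem_zpowers a)⟩
  obtain ⟨S, haS⟩ := hex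
  obtain ⟨y, hy⟩ := H.exists_cen S
  have hyo : orderOf y = 13 := hy.order hx
  have hV := H.card_inf (IsConj.refl a) haS
  have hyV : y ∈ (S : Subgroup G) ⊓ centralizer {a} :=
    ⟨H.mem hy, mem_centralizer_singleton_iff.2 ((mem_centralizer_singleton_iff.1 (hy.le haS)).symm)⟩
  obtain ⟨n2, e2⟩ := sum_sub hX ((S : Subgroup G) ⊓ centralizer {a}) (· ∉ zpowers y) (d := d) (xa := xa) (z := z)
    (n := 156) (N := 169) (by rw [hV]; norm_num)
    (by rw [card_compl (zpowers_le.2 hyV), hV, Nat.card_zpowers, hyo]; norm_num) (by simp [one_mem]) hd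
    (fun u hu hu1 => by
      rcases H.card_V (IsConj.refl a) haS hy hu with h | h | h
      · exact absurd (h ▸ one_mem _) hu1
      · exact absurd h.1 hu1
      · exact hXa u h.2)
    (fun u hu hu1 hu2 => by
      rcases H.card_V (IsConj.refl a) haS hy hu with h | h | h
      · exact absurd h hu1
      · exact hXx u h.2
      · exact absurd h.1 hu2)
  push_cast at e1 e2 e3
  constructor
  · have h5 : (169 : ℤ) ∣ 12 * (d - z) := ⟨n1 - n2, by linear_combination 13 * e1 - e2⟩
    exact (Int.isCoprime_iff_gcd_eq_one.2 (by norm_num : Int.gcd 169 12 = 1)).dvd_of_dvd_mul_left h5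
  · exact ⟨n3, by linear_combination e3⟩

end Cfsg.Agent.H266.M13
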