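import Mathlib
import Cfsg.Agent.S0242

/-!
# Numbers in `SL(3, 3)` (helper266, pieces (iv), (vii) of [S13] of (M,23), S4929)
-/

set_option autoImplicit false
set_option maxRecDepth 100000

namespace Cfsg.Agent.H266.M13

abbrev S := Matrix.SpecialLinearGroup (Fin 3) (ZMod 3)

theorem card_S : Nat.card S = 5616 := by
  have h3 := Cfsg.Agent.S0242.result (F := ZMod 3) rfl 3 (by norm_num)
  rw [ZMod.card, Fin.prod_univ_three] at h3
  have h4 : (3 ^ 3 - 3 ^ ((0 : Fin 3) : ℕ)) * (3 ^ 3 - 3 ^ ((1 : Fin 3) : ℕ)) * (3 ^ 3 - 3 ^ ((2 : Fin 3) : ℕ)) = 11232 := by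
    norm_num
  rw [h4] at h3
  change 2 * Nat.card S = 11232 at h3
  omega

/-- the condition for the nine entries of an involution -/
def isInv (a b c d e f g h i : ZMod 3) : Bool :=
  (a * a + b * d + c * g == 1) && (a * b + b * e + c * h == 0) && (a * c + b * f + c * i == 0) &&
  (d * a + e * d + f * g == 0) && (d * b + e * e + f * h == 1) && (d * c + e * f + f * i == 0) &&
  (g * a + h * d + i * g == 0) && (g * b + h * e + i * h == 0) && (g * c + h * f + i * i == 1) &&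
  (a * (e * i - f * h) - b * (d * i - f * g) + c * (d * h - e * g) == 1) &&
  !(a == 1 && b == 0 && c == 0 && d == 0 && e == 1 && f == 0 && g == 0 && h == 0 && i == 1)

theorem count_inv : (∑ a : ZMod 3, ∑ b : ZMod 3, ∑ c : ZMod 3, ∑ d : ZMod 3, ∑ e : ZMod 3, ∑ f : ZMod 3, ∑ g : ZMod 3,
    ∑ h : ZMod 3, ∑ i : ZMod 3, if isInv a b c d e f g h i then 1 else 0) = 117 := by
  decide +kernel


theorem eq_of_entries {A B : S} (h : ∀ i j, A.1 i j = B.1 i j) : A = B :=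
  Subtype.ext (Matrix.ext h)

/-- the nine entries -/
def ent (A : S) : ZMod 3 × ZMod 3 × ZMod 3 × ZMod 3 × ZMod 3 × ZMod 3 × ZMod 3 × ZMod 3 × ZMod 3 :=
  (A.1 0 0, A.1 0 1, A.1 0 2, A.1 1 0, A.1 1 1, A.1 1 2, A.1 2 0, A.1 2 1, A.1 2 2)

theorem ent_injective : Function.Injective ent := by
  intro A B h
  simp only [ent, Prod.mk.injEq] at h
  obtain ⟨h1, h2, h3, h4, h5, h6, h7, h8, h9⟩ := h
  refine eq_of_entries fun i j => ?_
  fin_cases i <;> fin_cases j <;> assumption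

theorem isInv_ent {A : S} (h1 : A * A = 1) (h2 : A ≠ 1) :
    isInv (A.1 0 0) (A.1 0 1) (A.1 0 2) (A.1 1 0) (A.1 1 1) (A.1 1 2) (A.1 2 0) (A.1 2 1) (A.1 2 2) = true := by
  have e : ∀ i j : Fin 3, A.1 i 0 * A.1 0 j + A.1 i 1 * A.1 1 j + A.1 i 2 * A.1 2 j =
      (1 : Matrix (Fin 3) (Fin 3) (ZMod 3)) i j := by
    intro i j
    have h3 : (A * A).1 i j = (1 : S).1 i j := by rw [h1]
    rw [Matrix.SpecialLinearGroup.coe_mul, Matrix.mul_apply, Fin.sum_univ_three] at h3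
    exact h3
  have hd : A.1 0 0 * (A.1 1 1 * A.1 2 2 - A.1 1 2 * A.1 2 1) - A.1 0 1 * (A.1 1 0 * A.1 2 2 - A.1 1 2 * A.1 2 0) +
      A.1 0 2 * (A.1 1 0 * A.1 2 1 - A.1 1 1 * A.1 2 0) = 1 := by
    have h3 := A.2
    rw [Matrix.det_fin_three] at h3
    linear_combination h3
  have hne : ¬ (A.1 0 0 = 1 ∧ A.1 0 1 = 0 ∧ A.1 0 2 = 0 ∧ A.1 1 0 = 0 ∧ A.1 1 1 = 1 ∧ A.1 1 2 = 0 ∧ A.1 2 0 = 0 ∧
      A.1 2 1 = 0 ∧ A.1 2 2 = 1) := by
    rintro ⟨a1, a2, a3, a4, a5, a6, a7, a8, a9⟩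
    apply h2
    refine eq_of_entries fun i j => ?_
    fin_cases i <;> fin_cases j <;> assumption
  have t00 := e 0 0
  have t01 := e 0 1
  have t02 := e 0 2
  have t10 := e 1 0
  have t11 := e 1 1
  have t12 := e 1 2
  have t20 := e 2 0
  have t21 := e 2 1
  have t22 := e 2 2
  clear e
  simp only [isInv, Bool.and_eq_true, Bool.not_eq_true', beq_iff_eq]
  refine ⟨⟨⟨⟨⟨⟨⟨⟨⟨⟨t00, t01⟩, t02⟩, t10⟩, t11⟩, t12⟩, t20⟩, t21⟩, t22⟩, hd⟩, ?_⟩
  rw [Bool.eq_false_iff]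
  intro hc
  simp only [Bool.and_eq_true, beq_iff_eq] at hc
  exact hne (by tauto)

/-- there are at most 117 involutions -/
theorem card_inv_le : Nat.card {A : S // A * A = 1 ∧ A ≠ 1} ≤ 117 := by
  let f : {A : S // A * A = 1 ∧ A ≠ 1} → {x : ZMod 3 × ZMod 3 × ZMod 3 × ZMod 3 × ZMod 3 × ZMod 3 × ZMod 3 × ZMod 3 × ZMod 3 //
      isInv x.1 x.2.1 x.2.2.1 x.2.2.2.1 x.2.2.2.2.1 x.2.2.2.2.2.1 x.2.2.2.2.2.2.1 x.2.2.2.2.2.2.2.1
        x.2.2.2.2.2.2.2.2 = true} := fun A => ⟨ent A.1, isInv_ent A.2.1 A.2.2⟩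
  have hf : Function.Injective f := by
    intro A B h
    exact Subtype.ext (ent_injective (congrArg Subtype.val h))
  refine (Nat.card_le_card_of_injective f hf).trans ?_
  rw [Nat.card_eq_fintype_card, Fintype.card_subtype, Finset.card_filter]
  simp only [Fintype.sum_prod_type]
  exact count_inv.le

end Cfsg.Agent.H266.M13
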