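import Mathlib
import Cfsg.Agent.H266.M13.Cnt
import Cfsg.Agent.Characters.ClassMul

/-!
# Involutions and elements of order 13 of `SL(3, 3)` (helper266, pieces (iv), (vii) of [S13] of (M,23), S4929)

For a finite group `L` with `e : L ≃* SL (Fin 3) (ZMod 3)`:
* `inv_conj` : all involutions are conjugate; `index_cent_inv`, `card_inv` : there are 117 of them;
* `card_cent` : `|C_L(y)| = 13` for `orderOf y = 13`; `card_sub` : there are 144 subgroups of order 13.
-/

set_option autoImplicit false
set_option maxRecDepth 100000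

namespace Cfsg.Agent.H266.M13

open Cfsg.Agent.Characters.ClassMul
open scoped Classical

/-- an involution -/
def t0 : S := ⟨!![1, 0, 0; 0, 2, 0; 0, 0, 2], by decide⟩

/-- an element of order 13 -/
def s0 : S := ⟨!![0, 0, 1; 1, 0, 1; 0, 1, 0], by decide⟩

theorem t0_sq : t0 * t0 = 1 := by decide
theorem t0_ne : t0 ≠ 1 := by decide
theorem s0_pow : s0 ^ 13 = 1 := by decide +kernel
theorem s0_ne : s0 ≠ 1 := by decide

theorem orderOf_s0 : orderOf s0 = 13 := orderOf_eq_prime_iff (hp := ⟨by norm_num⟩) |>.mpr ⟨s0_pow, s0_ne⟩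

/-- determinant of a matrix commuting with `t0` -/
def dT (x : ZMod 3 × ZMod 3 × ZMod 3 × ZMod 3 × ZMod 3) : Bool :=
  x.1 * (x.2.1 * x.2.2.2.2 - x.2.2.1 * x.2.2.2.1) == 1

theorem count_dT : Fintype.card {x : ZMod 3 × ZMod 3 × ZMod 3 × ZMod 3 × ZMod 3 // dT x = true} = 48 := by
  decide +kernel

/-- determinant of a matrix commuting with `s0` -/
def dS (x : ZMod 3 × ZMod 3 × ZMod 3) : Bool :=
  x.1 * ((x.1 + x.2.2) * (x.1 + x.2.2) - (x.2.1 + x.2.2) * x.2.1) -
    x.2.2 * (x.2.1 * (x.1 + x.2.2) - (x.2.1 + x.2.2) * x.2.2) +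
    x.2.1 * (x.2.1 * x.2.1 - (x.1 + x.2.2) * x.2.2) == 1

theorem count_dS : Fintype.card {x : ZMod 3 × ZMod 3 × ZMod 3 // dS x = true} = 13 := by
  decide +kernel

theorem det_S (A : S) : A.1 0 0 * (A.1 1 1 * A.1 2 2 - A.1 1 2 * A.1 2 1) -
    A.1 0 1 * (A.1 1 0 * A.1 2 2 - A.1 1 2 * A.1 2 0) + A.1 0 2 * (A.1 1 0 * A.1 2 1 - A.1 1 1 * A.1 2 0) = 1 := by
  have h3 := A.2
  rw [Matrix.det_fin_three] at h3
  linear_combination h3

theorem comm_t0 {A : S} (h : A * t0 = t0 * A) : A.1 0 1 = 0 ∧ A.1 0 2 = 0 ∧ A.1 1 0 = 0 ∧ A.1 2 0 = 0 := by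
  have e : ∀ i j : Fin 3, A.1 i 0 * t0.1 0 j + A.1 i 1 * t0.1 1 j + A.1 i 2 * t0.1 2 j =
      t0.1 i 0 * A.1 0 j + t0.1 i 1 * A.1 1 j + t0.1 i 2 * A.1 2 j := by
    intro i j
    have h3 : (A * t0).1 i j = (t0 * A).1 i j := by rw [h]
    rw [Matrix.SpecialLinearGroup.coe_mul, Matrix.SpecialLinearGroup.coe_mul, Matrix.mul_apply, Matrix.mul_apply,
      Fin.sum_univ_three, Fin.sum_univ_three] at h3
    exact h3
  have f01 := e 0 1
  have f02 := e 0 2
  have f10 := e 1 0
  have f20 := e 2 0
  simp only [t0, Matrix.of_apply, Matrix.cons_val', Matrix.cons_val_zero, Matrix.cons_val_one, Matrix.cons_val] at f01 f02 f10 f20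
  refine ⟨?_, ?_, ?_, ?_⟩
  · linear_combination f01
  · linear_combination f02
  · linear_combination - f10
  · linear_combination - f20

theorem comm_s0 {A : S} (h : A * s0 = s0 * A) : A.1 0 1 = A.1 2 0 ∧ A.1 1 1 = A.1 0 0 + A.1 2 0 ∧ A.1 2 1 = A.1 1 0 ∧
    A.1 0 2 = A.1 1 0 ∧ A.1 1 2 = A.1 1 0 + A.1 2 0 ∧ A.1 2 2 = A.1 0 0 + A.1 2 0 := by
  have e : ∀ i j : Fin 3, A.1 i 0 * s0.1 0 j + A.1 i 1 * s0.1 1 j + A.1 i 2 * s0.1 2 j =
      s0.1 i 0 * A.1 0 j + s0.1 i 1 * A.1 1 j + s0.1 i 2 * A.1 2 j := by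
    intro i j
    have h3 : (A * s0).1 i j = (s0 * A).1 i j := by rw [h]
    rw [Matrix.SpecialLinearGroup.coe_mul, Matrix.SpecialLinearGroup.coe_mul, Matrix.mul_apply, Matrix.mul_apply,
      Fin.sum_univ_three, Fin.sum_univ_three] at h3
    exact h3
  have f00 := e 0 0
  have f10 := e 1 0
  have f20 := e 2 0
  have f01 := e 0 1
  have f11 := e 1 1
  have f21 := e 2 1
  simp only [s0, Matrix.of_apply, Matrix.cons_val', Matrix.cons_val_zero, Matrix.cons_val_one, Matrix.cons_val] at f00 f10 f20 f01 f11 f21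
  have a1 : A.1 0 1 = A.1 2 0 := by linear_combination f00
  have a2 : A.1 1 1 = A.1 0 0 + A.1 2 0 := by linear_combination f10
  have a3 : A.1 2 1 = A.1 1 0 := by linear_combination f20
  refine ⟨a1, a2, a3, ?_, ?_, ?_⟩
  · linear_combination f01 + a3
  · linear_combination f11 + a1 + a3
  · linear_combination f21 + a2

theorem card_cent_t0 : Nat.card (Subgroup.centralizer ({t0} : Set S)) ≤ 48 := by
  let f : Subgroup.centralizer ({t0} : Set S) → {x : ZMod 3 × ZMod 3 × ZMod 3 × ZMod 3 × ZMod 3 // dT x = true} := fun A =>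
    ⟨(A.1.1 0 0, A.1.1 1 1, A.1.1 1 2, A.1.1 2 1, A.1.1 2 2), by
      obtain ⟨h1, h2, h3, h4⟩ := comm_t0 (A := A.1) (Subgroup.mem_centralizer_singleton_iff.mp A.2)
      have := det_S A.1
      rw [h1, h2] at this
      simp only [dT, beq_iff_eq]
      linear_combination this⟩
  have hf : Function.Injective f := by
    intro A B h
    have h := congrArg Subtype.val h
    simp only [f, Prod.mk.injEq] at h
    obtain ⟨h1, h2, h3, h4⟩ := comm_t0 (A := A.1) (Subgroup.mem_centralizer_singleton_iff.mp A.2)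
    obtain ⟨k1, k2, k3, k4⟩ := comm_t0 (A := B.1) (Subgroup.mem_centralizer_singleton_iff.mp B.2)
    obtain ⟨m1, m2, m3, m4, m5⟩ := h
    refine Subtype.ext (eq_of_entries fun i j => ?_)
    fin_cases i <;> fin_cases j
    · exact m1
    · exact h1.trans k1.symm
    · exact h2.trans k2.symm
    · exact h3.trans k3.symm
    · exact m2
    · exact m3
    · exact h4.trans k4.symm
    · exact m4
    · exact m5
  refine (Nat.card_le_card_of_injective f hf).trans ?_
  rw [Nat.card_eq_fintype_card]
  exact count_dT.le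

theorem card_cent_s0 : Nat.card (Subgroup.centralizer ({s0} : Set S)) = 13 := by
  refine le_antisymm ?_ ?_
  · let f : Subgroup.centralizer ({s0} : Set S) → {x : ZMod 3 × ZMod 3 × ZMod 3 // dS x = true} := fun A =>
      ⟨(A.1.1 0 0, A.1.1 1 0, A.1.1 2 0), by
        obtain ⟨h1, h2, h3, h4, h5, h6⟩ := comm_s0 (A := A.1) (Subgroup.mem_centralizer_singleton_iff.mp A.2)
        have := det_S A.1
        rw [h1, h2, h3, h4, h5, h6] at this
        simp only [dS, beq_iff_eq]
        linear_combination this⟩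
    have hf : Function.Injective f := by
      intro A B h
      have h := congrArg Subtype.val h
      simp only [f, Prod.mk.injEq] at h
      obtain ⟨h1, h2, h3, h4, h5, h6⟩ := comm_s0 (A := A.1) (Subgroup.mem_centralizer_singleton_iff.mp A.2)
      obtain ⟨k1, k2, k3, k4, k5, k6⟩ := comm_s0 (A := B.1) (Subgroup.mem_centralizer_singleton_iff.mp B.2)
      obtain ⟨m1, m2, m3⟩ := h
      refine Subtype.ext (eq_of_entries fun i j => ?_)
      fin_cases i <;> fin_cases j
      · exact m1
      · exact h1.trans (m3.trans k1.symm)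
      · exact h4.trans (m2.trans k4.symm)
      · exact m2
      · exact h2.trans ((by rw [m1, m3] : A.1.1 0 0 + A.1.1 2 0 = B.1.1 0 0 + B.1.1 2 0).trans k2.symm)
      · exact h5.trans ((by rw [m2, m3] : A.1.1 1 0 + A.1.1 2 0 = B.1.1 1 0 + B.1.1 2 0).trans k5.symm)
      · exact m3
      · exact h3.trans (m2.trans k3.symm)
      · exact h6.trans ((by rw [m1, m3] : A.1.1 0 0 + A.1.1 2 0 = B.1.1 0 0 + B.1.1 2 0).trans k6.symm)
    refine (Nat.card_le_card_of_injective f hf).trans ?_
    rw [Nat.card_eq_fintype_card]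
    exact count_dS.le
  · have h1 : Subgroup.zpowers s0 ≤ Subgroup.centralizer ({s0} : Set S) := by
      rw [Subgroup.zpowers_le]
      exact Subgroup.mem_centralizer_singleton_iff.mpr rfl
    have h2 := Subgroup.card_le_of_le h1
    rwa [Nat.card_zpowers, orderOf_s0] at h2


theorem natCard_conj {G : Type*} [Group G] [Finite G] (x : G) :
    Nat.card {u : G // IsConj x u} = (Subgroup.centralizer ({x} : Set G)).index := by
  have := Fintype.ofFinite G
  rw [← card_filter_isConj, Nat.card_eq_fintype_card, Fintype.card_subtype]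

theorem isConj_sq {G : Type*} [Group G] {t u : G} (h : IsConj t u) (h1 : t * t = 1) (h2 : t ≠ 1) :
    u * u = 1 ∧ u ≠ 1 := by
  obtain ⟨c, rfl⟩ := isConj_iff.mp h
  refine ⟨?_, ?_⟩
  · have : c * t * c⁻¹ * (c * t * c⁻¹) = c * (t * t) * c⁻¹ := by group
    rw [this, h1]
    group
  · intro h
    apply h2
    have : t = c⁻¹ * (c * t * c⁻¹) * c := by group
    rw [this, h]
    group

theorem index_t0 : (Subgroup.centralizer ({t0} : Set S)).index = 117 ∧
    ∀ A : S, A * A = 1 → A ≠ 1 → IsConj t0 A := by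
  have h1 := (Subgroup.centralizer ({t0} : Set S)).card_mul_index
  rw [card_S] at h1
  have h2 := card_cent_t0
  have h3 : 117 ≤ (Subgroup.centralizer ({t0} : Set S)).index := by
    by_contra hc
    have : Nat.card (Subgroup.centralizer ({t0} : Set S)) * (Subgroup.centralizer ({t0} : Set S)).index ≤ 48 * 116 :=
      Nat.mul_le_mul h2 (by omega)
    omega
  rw [← natCard_conj] at h3 ⊢
  have h5 := card_inv_le
  change 117 ≤ Nat.card ({u : S | IsConj t0 u} : Set S) at h3
  change Nat.card ({A : S | A * A = 1 ∧ A ≠ 1} : Set S) ≤ 117 at h5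
  change Nat.card ({u : S | IsConj t0 u} : Set S) = 117 ∧ _
  rw [Nat.card_coe_set_eq] at h3 h5 ⊢
  have hsub : {u : S | IsConj t0 u} ⊆ {A : S | A * A = 1 ∧ A ≠ 1} := fun A hA => isConj_sq hA t0_sq t0_ne
  have h6 := Set.eq_of_subset_of_ncard_le hsub (h5.trans h3) (Set.toFinite _)
  refine ⟨?_, fun A hA hA' => ?_⟩
  · have h7 := Set.ncard_le_ncard hsub (Set.toFinite _)
    omega
  · have : A ∈ {u : S | IsConj t0 u} := by
      rw [h6]
      exact ⟨hA, hA'⟩
    exact this

section

variable {L : Type*} [Group L] (e : L ≃* S)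
include e

theorem card_L : Nat.card L = 5616 := by
  rw [Nat.card_congr e.toEquiv, card_S]

theorem finite_L : Finite L := Finite.of_equiv S e.symm.toEquiv

theorem conj_t0 {a : L} (ha : orderOf a = 2) : IsConj (e.symm t0) a := by
  have h1 : a ^ 2 = 1 := by rw [← ha]; exact pow_orderOf_eq_one a
  have h2 : IsConj t0 (e a) := by
    refine index_t0.2 _ ?_ ?_
    · rw [← map_mul, ← pow_two, h1, map_one]
    · intro h
      rw [map_eq_one_iff e e.injective] at h
      rw [h, orderOf_one] at ha
      omega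
  obtain ⟨c, hc⟩ := isConj_iff.mp h2
  refine isConj_iff.mpr ⟨e.symm c, e.injective ?_⟩
  simp [hc]

theorem inv_conj {a b : L} (ha : orderOf a = 2) (hb : orderOf b = 2) : IsConj a b :=
  (conj_t0 e ha).symm.trans (conj_t0 e hb)

theorem orderOf_t0 : orderOf (e.symm t0) = 2 := by
  rw [e.symm.orderOf_eq]
  exact orderOf_eq_prime (by rw [pow_two, t0_sq]) t0_ne

theorem card_cent_map (a : L) : Nat.card (Subgroup.centralizer ({a} : Set L)) =
    Nat.card (Subgroup.centralizer ({e a} : Set S)) := by
  refine Nat.card_congr (e.toEquiv.subtypeEquiv fun x => ?_)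
  rw [Subgroup.mem_centralizer_singleton_iff, Subgroup.mem_centralizer_singleton_iff]
  constructor
  · intro h
    change e x * e a = e a * e x
    rw [← map_mul, h, map_mul]
  · intro h
    apply e.injective
    rw [map_mul, map_mul]
    exact h

theorem natCard_cl (a : L) : Nat.card {u : L // IsConj a u} = Nat.card {u : S // IsConj (e a) u} := by
  refine Nat.card_congr (e.toEquiv.subtypeEquiv fun x => ?_)
  constructor
  · intro h
    obtain ⟨c, rfl⟩ := isConj_iff.mp h
    exact isConj_iff.mpr ⟨e c, by simp⟩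
  · intro h
    obtain ⟨c, hc⟩ := isConj_iff.mp h
    exact isConj_iff.mpr ⟨e.symm c, e.injective (by simpa using hc)⟩

theorem index_cent_inv {a : L} (ha : orderOf a = 2) : (Subgroup.centralizer ({a} : Set L)).index = 117 := by
  have := finite_L e
  have h0 := conj_t0 e ha
  have h1 : Nat.card {u : L // IsConj a u} = Nat.card {u : L // IsConj (e.symm t0) u} :=
    Nat.card_congr (Equiv.subtypeEquivRight fun x => ⟨fun h => h0.trans h, fun h => h0.symm.trans h⟩)
  rw [← natCard_conj, h1, natCard_cl e, MulEquiv.apply_symm_apply, natCard_conj, index_t0.1]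

/-- the number of involutions -/
theorem card_inv : Nat.card {a : L // orderOf a = 2} = 117 := by
  have := finite_L e
  rw [← index_cent_inv e (orderOf_t0 e), ← natCard_conj]
  refine Nat.card_congr (Equiv.subtypeEquivRight fun x => ⟨fun h => conj_t0 e h, fun h => ?_⟩)
  obtain ⟨c, rfl⟩ := isConj_iff.mp h
  exact ((MulAut.conj c).orderOf_eq (e.symm t0)).trans (orderOf_t0 e)

/-- centralizers of elements of order 13 -/
theorem card_cent {y : L} (hy : orderOf y = 13) : Nat.card (Subgroup.centralizer ({y} : Set L)) = 13 := by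
  have := finite_L e
  have h13 : Fact (Nat.Prime 13) := ⟨by norm_num⟩
  rw [card_cent_map e]
  have hy' : orderOf (e y) = 13 := by rw [e.orderOf_eq, hy]
  generalize e y = z at hy'
  have hf : (Nat.card S).factorization 13 = 1 := by
    rw [card_S, show 5616 = 2 ^ 4 * 3 ^ 3 * 13 by norm_num]
    rw [Nat.factorization_mul (by norm_num) (by norm_num), Nat.factorization_mul (by norm_num) (by norm_num),
      Nat.factorization_pow, Nat.factorization_pow]
    simp [Nat.Prime.factorization Nat.prime_two, Nat.Prime.factorization Nat.prime_three,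
      Nat.Prime.factorization h13.out]
  obtain ⟨g, hg⟩ : ∃ g : S, g * z * g⁻¹ ∈ Subgroup.zpowers s0 := by
    have c1 : Nat.card (Subgroup.zpowers z) = 13 ^ (Nat.card S).factorization 13 := by
      rw [Nat.card_zpowers, hy', hf, pow_one]
    have c2 : Nat.card (Subgroup.zpowers s0) = 13 ^ (Nat.card S).factorization 13 := by
      rw [Nat.card_zpowers, orderOf_s0, hf, pow_one]
    obtain ⟨g, hg⟩ := MulAction.exists_smul_eq S (Sylow.ofCard _ c1) (Sylow.ofCard _ c2)
    refine ⟨g, ?_⟩
    have h1 : ((g • (Sylow.ofCard _ c1) : Sylow 13 S) : Subgroup S) = Subgroup.zpowers s0 := by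
      rw [hg]
      rfl
    rw [← h1, Sylow.coe_subgroup_smul]
    exact Subgroup.smul_mem_pointwise_smul _ (MulAut.conj g) _ (Subgroup.mem_zpowers z)
  have hz : orderOf (g * z * g⁻¹) = 13 := by
    rw [← hy']
    exact (MulAut.conj g).orderOf_eq z
  have h1 : Nat.card (Subgroup.centralizer ({z} : Set S)) =
      Nat.card (Subgroup.centralizer ({g * z * g⁻¹} : Set S)) := card_cent_map (MulAut.conj g) z
  have h2 : Subgroup.zpowers (g * z * g⁻¹) = Subgroup.zpowers s0 := by
    refine Subgroup.eq_of_le_of_card_ge (Subgroup.zpowers_le.mpr hg) ?_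
    rw [Nat.card_zpowers, Nat.card_zpowers, hz, orderOf_s0]
  rw [h1, ← Subgroup.centralizer_closure, ← Subgroup.zpowers_eq_closure, h2, Subgroup.zpowers_eq_closure,
    Subgroup.centralizer_closure, card_cent_s0]

theorem fact13 : (Nat.card L).factorization 13 = 1 := by
  rw [card_L e, show 5616 = 2 ^ 4 * 3 ^ 3 * 13 by norm_num]
  rw [Nat.factorization_mul (by norm_num) (by norm_num), Nat.factorization_mul (by norm_num) (by norm_num),
    Nat.factorization_pow, Nat.factorization_pow]
  simp [Nat.Prime.factorization Nat.prime_two, Nat.Prime.factorization Nat.prime_three,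
    Nat.Prime.factorization (show Nat.Prime 13 by norm_num)]

/-- 144 Sylow `13`-subgroups -/
theorem card_sylow : Nat.card (Sylow 13 L) = 144 := by
  have := finite_L e
  have h13 : Fact (Nat.Prime 13) := ⟨by norm_num⟩
  let P : Sylow 13 L := default
  have hP : Nat.card P = 13 := by
    rw [P.card_eq_multiplicity, fact13 e, pow_one]
  have hcyc : IsCyclic P := isCyclic_of_prime_card hP
  obtain ⟨y, hy⟩ := hcyc.exists_generator
  have hyo : orderOf y = 13 := by rw [orderOf_eq_card_of_forall_mem_zpowers hy, hP]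
  have hyo' : orderOf (y : L) = 13 := by rw [Subgroup.orderOf_coe, hyo]
  have hC : (P : Subgroup L) = Subgroup.zpowers (y : L) := by
    symm
    refine Subgroup.eq_of_le_of_card_ge (Subgroup.zpowers_le.mpr y.2) ?_
    rw [Nat.card_zpowers, hyo']
    exact hP.le
  have hcent : Nat.card (Subgroup.centralizer ((P : Subgroup L) : Set L)) = 13 := by
    rw [hC, Subgroup.zpowers_eq_closure, Subgroup.centralizer_closure, card_cent e hyo']
  -- the normalizer has order at most `12 * 13`
  have h1 : Nat.card (Sylow 13 L) = (Subgroup.normalizer ((P : Subgroup L) : Set L)).index :=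
    P.card_eq_index_normalizer
  have h2 : Nat.card (Sylow 13 L) ≡ 1 [MOD 13] := card_sylow_modEq_one 13 L
  have h3 : Nat.card (Sylow 13 L) ∣ 432 := by
    have h4 := P.card_dvd_index
    have h5 := (P : Subgroup L).card_mul_index
    rw [card_L e, hP] at h5
    have h6 : (P : Subgroup L).index = 432 := by omega
    rwa [h6] at h4
  have h4 : Nat.card (Subgroup.normalizer ((P : Subgroup L) : Set L)) ≤ 13 * 12 := by
    have k1 := (P : Subgroup L).normalizerMonoidHom_ker
    have k2 := Subgroup.card_mul_index (P : Subgroup L).normalizerMonoidHom.ker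
    have k3 : (P : Subgroup L).normalizerMonoidHom.ker.index ≤ 12 := by
      rw [Subgroup.index_ker]
      refine (Subgroup.card_le_card_group _).trans ?_
      have := IsCyclic.card_mulAut (P : Subgroup L)
      rw [this, hP]
      decide
    have k4 : Nat.card (P : Subgroup L).normalizerMonoidHom.ker ≤ 13 := by
      rw [k1]
      refine le_trans ?_ hcent.le
      let f : ((Subgroup.centralizer ((P : Subgroup L) : Set L)).subgroupOf
          (Subgroup.normalizer ((P : Subgroup L) : Set L))) → Subgroup.centralizer ((P : Subgroup L) : Set L) :=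
        fun x => ⟨x.1.1, x.2⟩
      refine Nat.card_le_card_of_injective f fun a b h => ?_
      have h' := congrArg Subtype.val h
      change a.1.1 = b.1.1 at h'
      exact Subtype.ext (Subtype.ext h')
    rw [← k2]
    exact Nat.mul_le_mul k4 k3
  have h5 := (Subgroup.normalizer ((P : Subgroup L) : Set L)).card_mul_index
  rw [card_L e, ← h1] at h5
  have h6 : 36 ≤ Nat.card (Sylow 13 L) := by
    by_contra hc
    have : Nat.card (Subgroup.normalizer ((P : Subgroup L) : Set L)) * Nat.card (Sylow 13 L) ≤ 13 * 12 * 35 :=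
      Nat.mul_le_mul h4 (by omega)
    omega
  have h7 : Nat.card (Sylow 13 L) ∈ Nat.divisors 432 := Nat.mem_divisors.mpr ⟨h3, by norm_num⟩
  have h8 : ∀ n ∈ Nat.divisors 432, n % 13 = 1 → 36 ≤ n → n = 144 := by decide +kernel
  exact h8 _ h7 h2 h6

end

end Cfsg.Agent.H266.M13
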