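import Mathlib
import Cfsg.Agent.H266.M13.LCard
import Cfsg.Agent.H266.M13.Brute

/-!
# Automorphisms of `SL(3, 3)` and classes of `13`-regular elements (helper266, (AUT) of [S13] of (M,23), S4929)

* `aut` : for an automorphism `σ` and a `13`-regular element `y`, `σ y` is conjugate to `y` or to `y⁻¹`.
-/

set_option autoImplicit false
set_option maxRecDepth 100000

namespace Cfsg.Agent.H266.M13

theorem det_MC {a b c d e : ZMod 3} (h : a * (b * e - c * d) = 1) : (MC a b c d e).det = 1 := by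
  rw [Matrix.det_fin_three]
  simp only [MC, Matrix.of_apply, Matrix.cons_val', Matrix.cons_val_zero, Matrix.cons_val_one, Matrix.cons_val]
  linear_combination h

theorem det_MD {a b c d e : ZMod 3} (h : a * (b * e - c * d) = 1) : (MD a b c d e).det = 1 := by
  rw [Matrix.det_fin_three]
  simp only [MD, Matrix.of_apply, Matrix.cons_val', Matrix.cons_val_zero, Matrix.cons_val_one, Matrix.cons_val]
  linear_combination h

theorem det_MB {x u w y z v : ZMod 3} (h : x * u * w = 1) : (MB x u w y z v).det = 1 := by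
  rw [Matrix.det_fin_three]
  simp only [MB, Matrix.of_apply, Matrix.cons_val', Matrix.cons_val_zero, Matrix.cons_val_one, Matrix.cons_val]
  linear_combination h

def a4 : S := ⟨A4, by decide⟩
def a6 : S := ⟨A6, by decide⟩
def a8 : S := ⟨A8, by decide⟩
def u1 : S := ⟨U1, by decide⟩
def u2 : S := ⟨U2, by decide⟩

def a8i : S := ⟨A8i, by decide⟩

theorem a8_inv : a8⁻¹ = a8i := inv_eq_of_mul_eq_one_right (Subtype.ext A8_mul.1)

theorem conj_of' {A B C : S} (h : C.1 * A.1 = B.1 * C.1) : IsConj A B := by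
  refine isConj_iff.mpr ⟨C, ?_⟩
  rw [mul_inv_eq_iff_eq_mul]
  exact Subtype.ext h

theorem conj_of {A B : S} {M : Mt} (hM : M.det = 1) (h : M * A.1 = B.1 * M) : IsConj A B :=
  conj_of' (C := ⟨M, hM⟩) h

/-- an element commuting with `t0` -/
theorem exists_MC {A : S} (h : A * t0 = t0 * A) : ∃ a b c d e : ZMod 3, a * (b * e - c * d) = 1 ∧
    A.1 = MC a b c d e := by
  obtain ⟨h1, h2, h3, h4⟩ := comm_t0 h
  refine ⟨A.1 0 0, A.1 1 1, A.1 1 2, A.1 2 1, A.1 2 2, ?_, ?_⟩
  · have := det_S A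
    rw [h1, h2] at this
    linear_combination this
  · ext i j
    fin_cases i <;> fin_cases j
    · rfl
    · exact h1
    · exact h2
    · exact h3
    · rfl
    · rfl
    · exact h4
    · rfl
    · rfl

theorem t0_val : t0.1 = T := rfl

/-- the elements commuting with `t0` -/
theorem cent_cases {A : S} (h : A * t0 = t0 * A) : A * A = 1 ∨ A * A * A = 1 ∨ (A * A = t0 ∧ IsConj a4 A) ∨
    (A * A * (A * A) = t0 ∧ (IsConj a8 A ∨ IsConj a8⁻¹ A)) ∨ (A * A * A = t0 ∧ (A = t0 ∨ IsConj a6 A)) := by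
  obtain ⟨a, b, c, d, e, hd, hA⟩ := exists_MC h
  rcases bf1 a b c d e hd with h1 | h1 | h1 | h1 | h1
  · left
    apply Subtype.ext
    change A.1 * A.1 = 1
    rw [hA]
    exact h1
  · right; left
    apply Subtype.ext
    change A.1 * A.1 * A.1 = 1
    rw [hA]
    exact h1
  · right; right; left
    refine ⟨?_, ?_⟩
    · apply Subtype.ext
      change A.1 * A.1 = T
      rw [hA]
      exact h1
    · obtain ⟨a', b', c', d', e', hd', h2⟩ := bf4 a b c d e hd h1
      exact conj_of (det_MC hd') (by rw [hA]; exact h2)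
  · right; right; right; left
    refine ⟨?_, ?_⟩
    · apply Subtype.ext
      change A.1 * A.1 * (A.1 * A.1) = T
      rw [hA]
      exact h1
    · obtain ⟨a', b', c', d', e', hd', h2 | h2⟩ := bf8 a b c d e hd h1
      · left
        exact conj_of (det_MC hd') (by rw [hA]; exact h2)
      · right
        rw [a8_inv]
        exact conj_of (det_MC hd') (by rw [hA]; exact h2)
  · right; right; right; right
    refine ⟨?_, ?_⟩
    · apply Subtype.ext
      change A.1 * A.1 * A.1 = T
      rw [hA]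
      exact h1
    · by_cases h2 : MC a b c d e = T
      · left
        exact Subtype.ext (by rw [hA, h2]; rfl)
      · right
        obtain ⟨a', b', c', d', e', hd', h3⟩ := bf6 a b c d e hd h1 h2
        exact conj_of (det_MC hd') (by rw [hA]; exact h3)

theorem MB_mul (a c b a' c' b' : ZMod 3) : MB 1 1 1 a c b * MB 1 1 1 a' c' b' =
    MB 1 1 1 (a + a') (c' + a * b' + c) (b + b') := by
  revert a c b a' c' b'
  decide +kernel

theorem MB_inv (a c b : ZMod 3) : MB 1 1 1 a c b * MB 1 1 1 (-a) (a * b - c) (-b) = 1 := by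
  revert a c b
  decide +kernel

/-- the upper unitriangular group -/
def Ug : Subgroup S where
  carrier := {A | ∃ a c b : ZMod 3, A.1 = MB 1 1 1 a c b}
  mul_mem' := by
    rintro A B ⟨a, c, b, h⟩ ⟨a', c', b', h'⟩
    refine ⟨a + a', c' + a * b' + c, b + b', ?_⟩
    change A.1 * B.1 = _
    rw [h, h', MB_mul]
  one_mem' := ⟨0, 0, 0, by decide⟩
  inv_mem' := by
    rintro A ⟨a, c, b, h⟩
    have hd : (MB 1 1 1 (-a) (a * b - c) (-b)).det = 1 := det_MB (by decide)
    have h1 : A⁻¹ = (⟨MB 1 1 1 (-a) (a * b - c) (-b), hd⟩ : S) := by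
      refine inv_eq_of_mul_eq_one_right (Subtype.ext ?_)
      change A.1 * MB 1 1 1 (-a) (a * b - c) (-b) = 1
      rw [h, MB_inv]
    exact ⟨-a, a * b - c, -b, by rw [h1]⟩

theorem card_Ug : Nat.card Ug = 27 := by
  let f : ZMod 3 × ZMod 3 × ZMod 3 → Ug := fun x => ⟨⟨MB 1 1 1 x.1 x.2.1 x.2.2, det_MB (by decide)⟩, x.1, x.2.1, x.2.2, rfl⟩
  have hf : Function.Bijective f := by
    constructor
    · rintro ⟨a, c, b⟩ ⟨a', c', b'⟩ h
      have h1 : MB 1 1 1 a c b = MB 1 1 1 a' c' b' := congrArg Subtype.val (congrArg Subtype.val h)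
      have e1 : a = a' := congrFun (congrFun h1 0) 1
      have e2 : c = c' := congrFun (congrFun h1 0) 2
      have e3 : b = b' := congrFun (congrFun h1 1) 2
      rw [e1, e2, e3]
    · rintro ⟨A, a, c, b, h⟩
      exact ⟨(a, c, b), Subtype.ext (Subtype.ext h.symm)⟩
  rw [← Nat.card_congr (Equiv.ofBijective f hf), Nat.card_prod, Nat.card_prod, Nat.card_zmod]

theorem conj_of_Ug {A : S} (h : A ∈ Ug) : A = 1 ∨ IsConj u1 A ∨ IsConj u2 A := by
  obtain ⟨a, c, b, h⟩ := h
  by_cases ha : a = 0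
  · by_cases hbc : b = 0 ∧ c = 0
    · left
      apply Subtype.ext
      rw [h, ha, hbc.1, hbc.2]
      decide
    · right; left
      obtain ⟨a', b', c', d', e', hd, h1⟩ := bfA b c hbc
      refine conj_of (det_MD hd) ?_
      rw [h, ha]
      exact h1
  · by_cases hb : b = 0
    · right; left
      obtain ⟨a', b', c', d', e', hd, h1⟩ := bfB a c (fun h0 => ha h0.1)
      refine conj_of (det_MC hd) ?_
      rw [h, hb]
      exact h1
    · right; right
      obtain ⟨x, u, w, y, z, v, hd, h1⟩ := bfC a b c ha hb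
      refine conj_of (M := MB x u w y z v) (det_MB hd) ?_
      rw [h]
      exact h1

theorem three_cases {A : S} {k : ℕ} (h : orderOf A = 3 ^ k) : A = 1 ∨ IsConj u1 A ∨ IsConj u2 A := by
  have h3 : Fact (Nat.Prime 3) := ⟨Nat.prime_three⟩
  have hf : (Nat.card S).factorization 3 = 3 := by
    rw [card_S, show 5616 = 2 ^ 4 * 3 ^ 3 * 13 by norm_num]
    rw [Nat.factorization_mul (by norm_num) (by norm_num), Nat.factorization_mul (by norm_num) (by norm_num),
      Nat.factorization_pow, Nat.factorization_pow]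
    simp [Nat.Prime.factorization Nat.prime_two, Nat.Prime.factorization Nat.prime_three,
      Nat.Prime.factorization (show Nat.Prime 13 by norm_num)]
  have hp : IsPGroup 3 (Subgroup.zpowers A) := IsPGroup.of_card (n := k) (by rw [Nat.card_zpowers, h])
  obtain ⟨P, hP⟩ := hp.exists_le_sylow
  have c2 : Nat.card Ug = 3 ^ (Nat.card S).factorization 3 := by rw [card_Ug, hf]; norm_num
  obtain ⟨g, hg⟩ := MulAction.exists_smul_eq S P (Sylow.ofCard _ c2)
  have h1 : ((g • P : Sylow 3 S) : Subgroup S) = Ug := by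
    rw [hg]
    rfl
  have h2 : g * A * g⁻¹ ∈ Ug := by
    rw [← h1, Sylow.coe_subgroup_smul]
    exact Subgroup.smul_mem_pointwise_smul _ (MulAut.conj g) _ (hP (Subgroup.mem_zpowers A))
  have h4 : IsConj (g * A * g⁻¹) A := (isConj_iff.mpr ⟨g, rfl⟩ : IsConj A (g * A * g⁻¹)).symm
  rcases conj_of_Ug h2 with h3 | h3 | h3
  · left
    have : A = g⁻¹ * (g * A * g⁻¹) * g := by group
    rw [this, h3]
    group
  · exact Or.inr (Or.inl (h3.trans h4))
  · exact Or.inr (Or.inr (h3.trans h4))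

/-- the `13`-regular classes -/
theorem cases_S {A : S} (h : ¬ 13 ∣ orderOf A) : A = 1 ∨ IsConj t0 A ∨ IsConj a4 A ∨ IsConj a6 A ∨ IsConj a8 A ∨
    IsConj a8⁻¹ A ∨ IsConj u1 A ∨ IsConj u2 A := by
  have h1 : orderOf A ∣ 432 := by
    have h2 : orderOf A ∣ 13 * 432 := by
      have := orderOf_dvd_natCard A
      rwa [card_S] at this
    exact (Nat.Coprime.dvd_mul_left ((Nat.Prime.coprime_iff_not_dvd (by norm_num)).mpr h).symm).mp h2
  by_cases he : 2 ∣ orderOf A
  · obtain ⟨m, hm⟩ := he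
    have hm0 : 0 < orderOf A := orderOf_pos A
    have ho : orderOf (A ^ m) = 2 := by
      rw [orderOf_pow' _ (by omega), hm, Nat.gcd_mul_left_left]
      exact Nat.mul_div_cancel _ (by omega)
    have hc : IsConj t0 (A ^ m) := by
      have h3 : A ^ m * A ^ m = 1 := by
        rw [← pow_two, ← ho, pow_orderOf_eq_one]
      refine index_t0.2 _ h3 ?_
      intro h4
      rw [h4, orderOf_one] at ho
      omega
    obtain ⟨g, hg⟩ := isConj_iff.mp hc.symm
    set B := g * A * g⁻¹ with hB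
    have hBA : IsConj B A := (isConj_iff.mpr ⟨g, rfl⟩ : IsConj A B).symm
    have hBm : B ^ m = t0 := by rw [← hg, hB, conj_pow]
    have hcomm : B * t0 = t0 * B := by rw [← hBm]; exact (Commute.refl B).pow_right m
    have hoB : orderOf B = 2 * m := by rw [← hm]; exact (MulAut.conj g).orderOf_eq A
    rcases cent_cases hcomm with h5 | h5 | h5 | h5 | h5
    · right; left
      refine IsConj.trans (index_t0.2 B h5 ?_) hBA
      intro h6
      rw [h6, orderOf_one] at hoB
      omega
    · exfalso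
      have h6 : B ^ 3 = 1 := by rw [pow_succ, pow_two]; exact h5
      have h7 := orderOf_dvd_of_pow_eq_one h6
      rw [hoB] at h7
      have h8 : 2 ∣ 3 := (Dvd.intro _ rfl).trans h7
      omega
    · exact Or.inr (Or.inr (Or.inl (h5.2.trans hBA)))
    · rcases h5.2 with h6 | h6
      · exact Or.inr (Or.inr (Or.inr (Or.inr (Or.inl (h6.trans hBA)))))
      · exact Or.inr (Or.inr (Or.inr (Or.inr (Or.inr (Or.inl (h6.trans hBA))))))
    · rcases h5.2 with h6 | h6
      · rw [h6] at hBA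
        exact Or.inr (Or.inl hBA)
      · exact Or.inr (Or.inr (Or.inr (Or.inl (h6.trans hBA))))
  · have h2 : orderOf A ∣ 3 ^ 3 := by
      have h3 : orderOf A ∣ 2 ^ 4 * 27 := h1
      exact (Nat.Coprime.dvd_mul_left (Nat.Coprime.pow_right 4
        ((Nat.Prime.coprime_iff_not_dvd Nat.prime_two).mpr he).symm)).mp h3
    obtain ⟨k, -, hk⟩ := (Nat.dvd_prime_pow Nat.prime_three).mp h2
    rcases three_cases hk with h3 | h3 | h3
    · exact Or.inl h3
    · exact Or.inr (Or.inr (Or.inr (Or.inr (Or.inr (Or.inr (Or.inl h3))))))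
    · exact Or.inr (Or.inr (Or.inr (Or.inr (Or.inr (Or.inr (Or.inr h3))))))

theorem isConj_orderOf {G : Type*} [Group G] {a b : G} (h : IsConj a b) : orderOf a = orderOf b := by
  obtain ⟨c, rfl⟩ := isConj_iff.mp h
  exact ((MulAut.conj c).orderOf_eq a).symm

theorem isConj_pow' {G : Type*} [Group G] {a b : G} (h : IsConj a b) (n : ℕ) : IsConj (a ^ n) (b ^ n) := by
  obtain ⟨c, rfl⟩ := isConj_iff.mp h
  exact isConj_iff.mpr ⟨c, conj_pow.symm⟩

theorem isConj_inv' {G : Type*} [Group G] {a b : G} (h : IsConj a b) : IsConj a⁻¹ b⁻¹ := by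
  obtain ⟨c, rfl⟩ := isConj_iff.mp h
  exact isConj_iff.mpr ⟨c, by group⟩

theorem orderOf_t0' : orderOf t0 = 2 := orderOf_eq_prime (by rw [pow_two, t0_sq]) t0_ne

theorem orderOf_a4 : orderOf a4 = 4 := by
  have h2 : Fact (Nat.Prime 2) := ⟨Nat.prime_two⟩
  exact orderOf_eq_prime_pow (p := 2) (n := 1) (by decide) (by decide)

theorem orderOf_a8 : orderOf a8 = 8 := by
  have h2 : Fact (Nat.Prime 2) := ⟨Nat.prime_two⟩
  exact orderOf_eq_prime_pow (p := 2) (n := 2) (by decide +kernel) (by decide +kernel)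

theorem orderOf_a6 : orderOf a6 = 6 := by
  refine orderOf_eq_of_pow_and_pow_div_prime (by norm_num) (by decide +kernel) ?_
  intro p hp hd
  have h1 : p = 2 ∨ p = 3 := by
    have : p ∣ 2 * 3 := hd
    rcases (Nat.Prime.dvd_mul hp).mp this with h | h
    · exact Or.inl ((Nat.prime_dvd_prime_iff_eq hp Nat.prime_two).mp h)
    · exact Or.inr ((Nat.prime_dvd_prime_iff_eq hp Nat.prime_three).mp h)
  rcases h1 with rfl | rfl
  · decide +kernel
  · decide +kernel

theorem orderOf_u1 : orderOf u1 = 3 := by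
  have h2 : Fact (Nat.Prime 3) := ⟨Nat.prime_three⟩
  exact orderOf_eq_prime (by decide +kernel) (by decide)

theorem orderOf_u2 : orderOf u2 = 3 := by
  have h2 : Fact (Nat.Prime 3) := ⟨Nat.prime_three⟩
  exact orderOf_eq_prime (by decide +kernel) (by decide)

/-- `(A - 1) ^ 2 = 0` -/
def Sqz (A : S) : Prop := (A.1 - 1) * (A.1 - 1) = 0

theorem sqz_conj {A B : S} (h : IsConj A B) (hA : Sqz A) : Sqz B := by
  obtain ⟨C, rfl⟩ := isConj_iff.mp h
  have h1 : C.1 * (C⁻¹ : S).1 = 1 := by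
    have : (C * C⁻¹ : S) = 1 := mul_inv_cancel C
    exact congrArg Subtype.val this
  have h2 : (C⁻¹ : S).1 * C.1 = 1 := by
    have : (C⁻¹ * C : S) = 1 := inv_mul_cancel C
    exact congrArg Subtype.val this
  have h3 : (C * A * C⁻¹ : S).1 = C.1 * A.1 * (C⁻¹ : S).1 := rfl
  unfold Sqz at hA ⊢
  rw [h3]
  generalize (C⁻¹ : S).1 = D at h1 h2
  generalize C.1 = C' at h1 h2
  generalize A.1 = A' at hA
  have h4 : C' * A' * D - 1 = C' * (A' - 1) * D := by
    rw [mul_sub, sub_mul, mul_one, h1]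
  rw [h4]
  calc C' * (A' - 1) * D * (C' * (A' - 1) * D) = C' * (A' - 1) * (D * C') * (A' - 1) * D := by
        simp only [mul_assoc]
    _ = C' * ((A' - 1) * (A' - 1)) * D := by rw [h2, mul_one]; simp only [mul_assoc]
    _ = 0 := by rw [hA, mul_zero, zero_mul]

theorem sqz_u1 : Sqz (a6 ^ 4) := by
  change ((a6 ^ 4 : S).1 - 1) * ((a6 ^ 4 : S).1 - 1) = 0
  decide +kernel

theorem not_sqz_u2 : ¬ Sqz u2 := by
  change ¬ ((u2 : S).1 - 1) * ((u2 : S).1 - 1) = 0
  decide +kernel

/-- an element conjugate to `u2` does not commute with an involution -/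
theorem u2_inv {A t : S} (h : IsConj u2 A) (ht : orderOf t = 2) (hc : A * t = t * A) : False := by
  have hA : orderOf A = 3 := by rw [← isConj_orderOf h, orderOf_u2]
  have ho : orderOf (A * t) = 6 := by
    have h1 : Commute A t := hc
    have := h1.orderOf_mul_eq_mul_orderOf_of_coprime (by rw [hA, ht]; norm_num)
    rw [this, hA, ht]
  have h4 : (A * t) ^ 4 = A := by
    have h1 : Commute A t := hc
    rw [h1.mul_pow]
    have h2 : t ^ 4 = 1 := by
      have : t ^ 2 = 1 := by rw [← ht, pow_orderOf_eq_one]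
      calc t ^ 4 = (t ^ 2) ^ 2 := by rw [← pow_mul]
        _ = 1 := by rw [this, one_pow]
    have h3 : A ^ 4 = A := by
      have : A ^ 3 = 1 := by
        have := pow_orderOf_eq_one A
        rwa [hA] at this
      rw [pow_succ, this, one_mul]
    rw [h2, h3, mul_one]
  have h5 : IsConj a6 (A * t) := by
    rcases cases_S (A := A * t) (by rw [ho]; norm_num) with h | h | h | h | h | h | h | h
    · rw [h, orderOf_one] at ho; omega
    · have := isConj_orderOf h; rw [orderOf_t0', ho] at this; omega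
    · have := isConj_orderOf h; rw [orderOf_a4, ho] at this; omega
    · exact h
    · have := isConj_orderOf h; rw [orderOf_a8, ho] at this; omega
    · have := isConj_orderOf h; rw [orderOf_inv, orderOf_a8, ho] at this; omega
    · have := isConj_orderOf h; rw [orderOf_u1, ho] at this; omega
    · have := isConj_orderOf h; rw [orderOf_u2, ho] at this; omega
  have h6 : IsConj (a6 ^ 4) A := by
    have := isConj_pow' h5 4
    rwa [h4] at this
  exact not_sqz_u2 (sqz_conj h.symm (sqz_conj h6 sqz_u1))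

/-- an involution commuting with `u1` -/
def d0 : S := ⟨!![2, 0, 0; 0, 1, 0; 0, 0, 2], by decide⟩

theorem d0_comm : u1 * d0 = d0 * u1 := by decide

theorem orderOf_d0 : orderOf d0 = 2 := orderOf_eq_prime (by decide) (by decide)

/-- an element conjugate to `u1` commutes with an involution -/
theorem u1_inv {A : S} (h : IsConj u1 A) : ∃ t : S, orderOf t = 2 ∧ A * t = t * A := by
  obtain ⟨c, rfl⟩ := isConj_iff.mp h
  refine ⟨c * d0 * c⁻¹, ?_, ?_⟩
  · rw [← orderOf_d0]
    exact (MulAut.conj c).orderOf_eq d0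
  · calc c * u1 * c⁻¹ * (c * d0 * c⁻¹) = c * (u1 * d0) * c⁻¹ := by group
      _ = c * (d0 * u1) * c⁻¹ := by rw [d0_comm]
      _ = c * d0 * c⁻¹ * (c * u1 * c⁻¹) := by group

theorem three_conj (σ : S ≃* S) {A : S} (h1 : IsConj u1 A ∨ IsConj u2 A) (h2 : IsConj u1 (σ A) ∨ IsConj u2 (σ A)) :
    IsConj (σ A) A := by
  rcases h1 with h1 | h1 <;> rcases h2 with h2 | h2
  · exact h2.symm.trans h1
  · exfalso
    obtain ⟨t, ht, hc⟩ := u1_inv h1
    refine u2_inv h2 (t := σ t) (by rw [σ.orderOf_eq, ht]) ?_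
    rw [← map_mul, hc, map_mul]
  · exfalso
    obtain ⟨t, ht, hc⟩ := u1_inv h2
    refine u2_inv h1 (t := σ.symm t) (by rw [σ.symm.orderOf_eq, ht]) ?_
    have := congrArg σ.symm hc
    simpa using this
  · exact h2.symm.trans h1

theorem aut_S (σ : S ≃* S) {A : S} (h : ¬ 13 ∣ orderOf A) : IsConj (σ A) A ∨ IsConj (σ A) A⁻¹ := by
  have ho : orderOf (σ A) = orderOf A := σ.orderOf_eq A
  have h' : ¬ 13 ∣ orderOf (σ A) := by rwa [ho]
  have key : ∀ B : S, ¬ 13 ∣ orderOf B →
      (orderOf B = 1) ∨ (orderOf B = 2 ∧ IsConj t0 B) ∨ (orderOf B = 4 ∧ IsConj a4 B) ∨ (orderOf B = 6 ∧ IsConj a6 B) ∨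
      (orderOf B = 8 ∧ (IsConj a8 B ∨ IsConj a8⁻¹ B)) ∨ (orderOf B = 3 ∧ (IsConj u1 B ∨ IsConj u2 B)) := by
    intro B hB
    rcases cases_S hB with h | h | h | h | h | h | h | h
    · left; rw [h, orderOf_one]
    · right; left; exact ⟨by rw [← isConj_orderOf h, orderOf_t0'], h⟩
    · right; right; left; exact ⟨by rw [← isConj_orderOf h, orderOf_a4], h⟩
    · right; right; right; left; exact ⟨by rw [← isConj_orderOf h, orderOf_a6], h⟩
    · right; right; right; right; left; exact ⟨by rw [← isConj_orderOf h, orderOf_a8], Or.inl h⟩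
    · right; right; right; right; left; exact ⟨by rw [← isConj_orderOf h, orderOf_inv, orderOf_a8], Or.inr h⟩
    · right; right; right; right; right; exact ⟨by rw [← isConj_orderOf h, orderOf_u1], Or.inl h⟩
    · right; right; right; right; right; exact ⟨by rw [← isConj_orderOf h, orderOf_u2], Or.inr h⟩
  rcases key A h with k | ⟨k, k'⟩ | ⟨k, k'⟩ | ⟨k, k'⟩ | ⟨k, k'⟩ | ⟨k, k'⟩
  · left
    rw [orderOf_eq_one_iff] at k
    rw [k, map_one]
  · left
    rcases key (σ A) h' with l | ⟨l, l'⟩ | ⟨l, l'⟩ | ⟨l, l'⟩ | ⟨l, l'⟩ | ⟨l, l'⟩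
    all_goals first | (exfalso; rw [ho, k] at l; omega) | exact l'.symm.trans k'
  · left
    rcases key (σ A) h' with l | ⟨l, l'⟩ | ⟨l, l'⟩ | ⟨l, l'⟩ | ⟨l, l'⟩ | ⟨l, l'⟩
    all_goals first | (exfalso; rw [ho, k] at l; omega) | exact l'.symm.trans k'
  · left
    rcases key (σ A) h' with l | ⟨l, l'⟩ | ⟨l, l'⟩ | ⟨l, l'⟩ | ⟨l, l'⟩ | ⟨l, l'⟩
    all_goals first | (exfalso; rw [ho, k] at l; omega) | exact l'.symm.trans k'
  · rcases key (σ A) h' with l | ⟨l, l'⟩ | ⟨l, l'⟩ | ⟨l, l'⟩ | ⟨l, l'⟩ | ⟨l, l'⟩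
    all_goals first | (exfalso; rw [ho, k] at l; omega) | skip
    rcases k' with k' | k' <;> rcases l' with l' | l'
    · exact Or.inl (l'.symm.trans k')
    · exact Or.inr (l'.symm.trans (isConj_inv' k'))
    · right
      have := isConj_inv' k'
      rw [inv_inv] at this
      exact l'.symm.trans this
    · exact Or.inl (l'.symm.trans k')
  · left
    rcases key (σ A) h' with l | ⟨l, l'⟩ | ⟨l, l'⟩ | ⟨l, l'⟩ | ⟨l, l'⟩ | ⟨l, l'⟩
    all_goals first | (exfalso; rw [ho, k] at l; omega) | exact three_conj σ k' l'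

/-- (AUT) -/
theorem aut {L : Type*} [Group L] (e : L ≃* S) (σ : L ≃* L) {y : L} (h : ¬ 13 ∣ orderOf y) :
    IsConj (σ y) y ∨ IsConj (σ y) y⁻¹ := by
  have back : ∀ {a b : L}, IsConj (e a) (e b) → IsConj a b := by
    intro a b hab
    obtain ⟨c, hc⟩ := isConj_iff.mp hab
    exact isConj_iff.mpr ⟨e.symm c, e.injective (by simpa using hc)⟩
  have h1 : ¬ 13 ∣ orderOf (e y) := by rwa [e.orderOf_eq]
  rcases aut_S ((e.symm.trans σ).trans e) h1 with h2 | h2
  · left
    apply back
    simpa using h2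
  · right
    apply back
    simpa using h2

end Cfsg.Agent.H266.M13
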